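import Cfsg.Agent.PairGen.Conj

/-!
# Conjugates of an element of prime order generating odd groups in pairs

The setting: all conjugates of `a` generate `G`, two of them generate a group of odd order, and a
group of odd order generated by conjugates of `a` is a `q`-group extended by any one of them.
-/

set_option autoImplicit false
set_option linter.unusedSectionVars false
set_option linter.style.haveILetI false

namespace CfsgLib.PairGen

open scoped commutatorElement Pointwise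

variable {G : Type*} [Group G]

/-- The subgroup generated by the conjugates of `a` lying in `S`. -/
def mclos (a : G) (S : Subgroup G) : Subgroup G := Subgroup.closure {b | IsConj a b ∧ b ∈ S}

/-- The subgroup generated by the `q`-elements of `H`. -/
def qpart (q : ℕ) (H : Subgroup G) : Subgroup G :=
  Subgroup.closure {x | x ∈ H ∧ ∃ n, orderOf x = q ^ n}

/-- The part of `qpart q H` centralizing `H`. -/
def ecore (q : ℕ) (H : Subgroup G) : Subgroup G := qpart q H ⊓ Subgroup.centralizer (H : Set G)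

/-- The structure of an odd order group generated by conjugates of `a` seen from one of them. -/
def Local (q : ℕ) (c : G) (H : Subgroup G) : Prop :=
  ∃ K : Subgroup G, K ≤ H ∧ IsPGroup q K ∧ H ≤ Subgroup.normalizer (K : Set G) ∧
    H = K ⊔ Subgroup.zpowers c ∧ ∀ x ∈ K, Commute x c → x ∈ Subgroup.centralizer (H : Set G)

/-- A group of odd order generated by conjugates of `a`. -/
structure OddSys (a : G) (H : Subgroup G) : Prop where
  closed : mclos a H = H
  odd : Odd (Nat.card H)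

/-- The standing hypothesis. -/
structure Hyp (p q : ℕ) (a : G) : Prop where
  hp : p.Prime
  hq : q.Prime
  hne : q ≠ p
  hord : orderOf a = p
  gen : mclos a ⊤ = ⊤
  pair : ∀ b c, IsConj a b → IsConj a c → Odd (Nat.card (Subgroup.closure ({b, c} : Set G)))
  loc : ∀ H, OddSys a H → ∀ c, IsConj a c → c ∈ H → Local q c H
  dich : (∀ H, OddSys a H → ∀ x ∈ qpart q H, ∀ c, IsConj a c → c ∈ H → Commute x c → x = 1) ∨
    (∀ H, OddSys a H → ∀ x ∈ qpart q H, ∀ y ∈ qpart q H,
      ⁅x, y⁆ ∈ Subgroup.centralizer (H : Set G))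

section Maps

variable {a : G} {q : ℕ}

theorem mclos_le (a : G) (S : Subgroup G) : mclos a S ≤ S := Subgroup.closure_le S |>.2 fun _ h => h.2

theorem mem_mclos {b : G} {S : Subgroup G} (hb : IsConj a b) (h : b ∈ S) : b ∈ mclos a S :=
  Subgroup.subset_closure ⟨hb, h⟩

theorem mclos_mono {S T : Subgroup G} (h : S ≤ T) : mclos a S ≤ mclos a T :=
  Subgroup.closure_mono fun _ hx => ⟨hx.1, h hx.2⟩

theorem mclos_mclos (a : G) (S : Subgroup G) : mclos a (mclos a S) = mclos a S :=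
  le_antisymm (mclos_mono (mclos_le a S))
    ((Subgroup.closure_le _).2 fun _ hx => mem_mclos hx.1 (mem_mclos hx.1 hx.2))

theorem le_of_members {S T : Subgroup G} (hS : mclos a S = S)
    (h : ∀ b, IsConj a b → b ∈ S → b ∈ T) : S ≤ T := by
  rw [← hS]; exact (Subgroup.closure_le _).2 fun b hb => h b hb.1 hb.2

theorem isConj_conj {b : G} (h : IsConj a b) (n : G) : IsConj a (n * b * n⁻¹) :=
  h.trans (isConj_iff.2 ⟨n, rfl⟩)

theorem mclos_map (n : G) (S : Subgroup G) :
    (mclos a S).map (MulAut.conj n).toMonoidHom = mclos a (S.map (MulAut.conj n).toMonoidHom) := by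
  rw [mclos, mclos, MonoidHom.map_closure]
  congr 1
  ext x
  simp only [Set.mem_image, Set.mem_ofPred_eq, mem_map_conj, MulEquiv.coe_toMonoidHom,
    MulAut.conj_apply]
  constructor
  · rintro ⟨y, ⟨hy, hyS⟩, rfl⟩
    exact ⟨isConj_conj hy n, by simpa [mul_assoc] using hyS⟩
  · rintro ⟨hx, hxS⟩
    exact ⟨n⁻¹ * x * n, ⟨by simpa using isConj_conj hx n⁻¹, hxS⟩, by group⟩

theorem mclos_conj_mem {n : G} {S : Subgroup G} (hn : n ∈ Subgroup.normalizer (S : Set G)) :
    n ∈ Subgroup.normalizer (mclos a S : Set G) := by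
  rw [← map_conj_eq_iff, mclos_map, map_conj_eq_iff.2 hn]

theorem qpart_le (q : ℕ) (H : Subgroup G) : qpart q H ≤ H :=
  Subgroup.closure_le H |>.2 fun _ h => h.1

theorem qpart_mono {H T : Subgroup G} (h : H ≤ T) : qpart q H ≤ qpart q T :=
  Subgroup.closure_mono fun _ hx => ⟨h hx.1, hx.2⟩

theorem qpart_map (n : G) (H : Subgroup G) :
    (qpart q H).map (MulAut.conj n).toMonoidHom = qpart q (H.map (MulAut.conj n).toMonoidHom) := by
  rw [qpart, qpart, MonoidHom.map_closure]
  congr 1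
  ext x
  simp only [Set.mem_image, Set.mem_ofPred_eq, mem_map_conj, MulEquiv.coe_toMonoidHom,
    MulAut.conj_apply]
  constructor
  · rintro ⟨y, ⟨hy, k, hk⟩, rfl⟩
    refine ⟨by simpa [mul_assoc] using hy, k, ?_⟩
    rw [← hk]; exact orderOf_injective (MulAut.conj n).toMonoidHom (MulAut.conj n).injective y
  · rintro ⟨hx, k, hk⟩
    refine ⟨n⁻¹ * x * n, ⟨hx, k, ?_⟩, by group⟩
    rw [← hk]
    simpa using orderOf_injective (MulAut.conj n⁻¹).toMonoidHom (MulAut.conj n⁻¹).injective x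

theorem qpart_conj_mem {n : G} {H : Subgroup G} (hn : n ∈ Subgroup.normalizer (H : Set G)) :
    n ∈ Subgroup.normalizer (qpart q H : Set G) := by
  rw [← map_conj_eq_iff, qpart_map, map_conj_eq_iff.2 hn]

theorem ecore_conj {n z : G} {H : Subgroup G} (hz : z ∈ ecore q H) :
    n * z * n⁻¹ ∈ ecore q (H.map (MulAut.conj n).toMonoidHom) := by
  refine ⟨qpart_map n H ▸ conj_mem_map_conj hz.1, fun x hx => ?_⟩
  have h := hz.2 _ (mem_map_conj.1 hx)
  calc x * (n * z * n⁻¹) = n * (n⁻¹ * x * n * z) * n⁻¹ := by group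
    _ = n * (z * (n⁻¹ * x * n)) * n⁻¹ := by rw [h]
    _ = n * z * n⁻¹ * x := by group

theorem ecore_conj_mem {n z : G} {H : Subgroup G} (hn : n ∈ Subgroup.normalizer (H : Set G))
    (hz : z ∈ ecore q H) : n * z * n⁻¹ ∈ ecore q H := by
  have h := ecore_conj (n := n) hz
  rwa [map_conj_eq_iff.2 hn] at h

end Maps

variable [Finite G] {p q : ℕ} {a c : G} {H : Subgroup G} (h : Hyp p q a)

include h

theorem Hyp.orderOf_eq {b : G} (hb : IsConj a b) : orderOf b = p := by
  obtain ⟨g, rfl⟩ := isConj_iff.1 hb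
  rw [← h.hord]
  simpa using orderOf_injective (MulAut.conj g).toMonoidHom (MulAut.conj g).injective a

theorem Hyp.ne_one {b : G} (hb : IsConj a b) : b ≠ 1 := fun h1 => by
  have := h.orderOf_eq hb
  rw [h1, orderOf_one] at this
  exact h.hp.one_lt.ne this

theorem Hyp.oddSys_pair {b c : G} (hb : IsConj a b) (hc : IsConj a c) :
    OddSys a (Subgroup.closure ({b, c} : Set G)) := by
  refine ⟨le_antisymm (mclos_le a _) ?_, h.pair b c hb hc⟩
  rw [Subgroup.closure_le]
  rintro x (rfl | rfl)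
  · exact mem_mclos hb (Subgroup.subset_closure (Or.inl rfl))
  · exact mem_mclos hc (Subgroup.subset_closure (Or.inr rfl))

theorem Hyp.coprime_qpow (n : ℕ) : (q ^ n).Coprime p :=
  ((Nat.coprime_primes h.hq h.hp).2 h.hne).pow_left n

theorem Hyp.eq_one_of_mem_zpowers {x : G} {n : ℕ} (hx : x ^ (q ^ n) = 1) (hc : IsConj a c)
    (hxc : x ∈ Subgroup.zpowers c) : x = 1 := by
  rw [← orderOf_eq_one_iff]
  refine Nat.eq_one_of_dvd_coprimes (h.coprime_qpow n) (orderOf_dvd_of_pow_eq_one hx) ?_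
  have := Subgroup.orderOf_dvd_natCard _ hxc
  rwa [Nat.card_zpowers, h.orderOf_eq hc] at this

/-- `qpart q H` is the `q`-group of the structure seen from any conjugate. -/
theorem Hyp.qpart_spec (hH : OddSys a H) (hc : IsConj a c) (hcH : c ∈ H) :
    IsPGroup q (qpart q H) ∧ H = qpart q H ⊔ Subgroup.zpowers c ∧
      (∀ x ∈ qpart q H, Commute x c → x ∈ ecore q H) ∧
      H ≤ Subgroup.normalizer (qpart q H : Set G) := by
  haveI : Fact q.Prime := ⟨h.hq⟩
  obtain ⟨K, hKH, hK, hN, hsup, hfix⟩ := h.loc H hH c hc hcH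
  have e : qpart q H = K := by
    refine le_antisymm ((Subgroup.closure_le K).2 ?_) fun x hx => Subgroup.subset_closure ?_
    · rintro x ⟨hxH, n, hn⟩
      have hset : ((K ⊔ Subgroup.zpowers c : Subgroup G) : Set G) =
          (K : Set G) * (Subgroup.zpowers c : Set G) :=
        Subgroup.coe_mul_of_right_le_normalizer_left K _
          (Subgroup.zpowers_le.2 (hN hcH))
      have hx' : x ∈ (K : Set G) * (Subgroup.zpowers c : Set G) := by
        rw [← hset]; rwa [← hsup]
      obtain ⟨k, hk, y, hy, rfl⟩ := hx'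
      simp only at hxH hn ⊢
      suffices y = 1 by rw [this, mul_one]; exact hk
      haveI : (K.subgroupOf H).Normal := Subgroup.normal_subgroupOf_of_le_normalizer hN
      let f := QuotientGroup.mk' (K.subgroupOf H)
      have h1 : f ⟨k * y, hxH⟩ = f ⟨y, (hsup ▸ le_sup_right : Subgroup.zpowers c ≤ H) hy⟩ := by
        have : (⟨k * y, hxH⟩ : H) =
            ⟨k, hKH hk⟩ * ⟨y, (hsup ▸ le_sup_right : Subgroup.zpowers c ≤ H) hy⟩ := rfl
        rw [this, map_mul, show f ⟨k, hKH hk⟩ = 1 from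
          (QuotientGroup.eq_one_iff _).2 (Subgroup.mem_subgroupOf.2 hk), one_mul]
      have hpow : (y ^ (q ^ n)) ∈ K := by
        have h2 : f ⟨k * y, hxH⟩ ^ (q ^ n) = 1 := by
          rw [← map_pow, show (⟨k * y, hxH⟩ : H) ^ (q ^ n) = 1 from
            Subtype.ext (by push_cast; rw [← hn]; exact pow_orderOf_eq_one _), map_one]
        rw [h1, ← map_pow] at h2
        simpa [f, Subgroup.mem_subgroupOf] using h2
      obtain ⟨m, hm⟩ := hK ⟨_, hpow⟩
      refine h.eq_one_of_mem_zpowers (n := n + m) ?_ hc hy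
      rw [pow_add, pow_mul]
      simpa using congrArg Subtype.val hm
    · obtain ⟨m, hm⟩ := IsPGroup.iff_orderOf.1 hK ⟨x, hx⟩
      exact ⟨hKH hx, m, by rwa [Subgroup.orderOf_mk] at hm⟩
  rw [e]
  exact ⟨hK, hsup, fun x hx hxc => ⟨e.symm ▸ hx, hfix x hx hxc⟩, hN⟩

theorem Hyp.ecore_commute (hcH : c ∈ H) {z : G} (hz : z ∈ ecore q H) : Commute z c :=
  (hz.2 c hcH).symm

theorem Hyp.decomp (hH : OddSys a H) (hc : IsConj a c) (hcH : c ∈ H) {x : G} (hx : x ∈ H) :
    ∃ k ∈ qpart q H, ∃ y ∈ Subgroup.zpowers c, x = k * y := by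
  obtain ⟨-, hsup, -, hN⟩ := h.qpart_spec hH hc hcH
  have hx' : x ∈ ((qpart q H ⊔ Subgroup.zpowers c : Subgroup G) : Set G) := hsup ▸ hx
  rw [Subgroup.coe_mul_of_right_le_normalizer_left _ _ (Subgroup.zpowers_le.2 (hN hcH))] at hx'
  obtain ⟨k, hk, y, hy, e⟩ := hx'
  exact ⟨k, hk, y, hy, e.symm⟩

theorem Hyp.conj_comm_mem (hH : OddSys a H) (hc : IsConj a c) (hcH : c ∈ H) {k y : G}
    (hk : k ∈ qpart q H) (hy : y ∈ H) : k * y * k⁻¹ * y⁻¹ ∈ qpart q H := by
  have hN := (h.qpart_spec hH hc hcH).2.2.2 hy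
  rw [show k * y * k⁻¹ * y⁻¹ = k * (y * k⁻¹ * y⁻¹) by group]
  exact mul_mem hk ((Subgroup.mem_normalizer_iff.1 hN _).1 (inv_mem hk))

theorem Hyp.qpart_inter (hH : OddSys a H) (hc : IsConj a c) (hcH : c ∈ H) {x : G}
    (hx : x ∈ qpart q H) (hxc : x ∈ Subgroup.zpowers c) : x = 1 := by
  obtain ⟨m, hm⟩ := (h.qpart_spec hH hc hcH).1 ⟨x, hx⟩
  exact h.eq_one_of_mem_zpowers (n := m) (by simpa using congrArg Subtype.val hm) hc hxc

/-- An element of the `q`-part normalizing the group of a conjugate centralizes `H`. -/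
theorem Hyp.stab (hH : OddSys a H) (hc : IsConj a c) (hcH : c ∈ H) {k : G}
    (hk : k ∈ qpart q H) (hkc : k * c * k⁻¹ ∈ Subgroup.zpowers c) : k ∈ ecore q H := by
  have h1 := h.qpart_inter hH hc hcH (h.conj_comm_mem hH hc hcH hk hcH)
    (mul_mem hkc (inv_mem (Subgroup.mem_zpowers c)))
  exact (h.qpart_spec hH hc hcH).2.2.1 k hk (mul_inv_eq_iff_eq_mul.1 (mul_inv_eq_one.1 h1))

/-- Every conjugate of `a` in `H` is conjugate into the group of any other one. -/
theorem Hyp.member (hH : OddSys a H) (hc : IsConj a c) (hcH : c ∈ H) {b : G} (hb : IsConj a b)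
    (hbH : b ∈ H) : ∃ k ∈ qpart q H, ∃ y ∈ Subgroup.zpowers c, b = k * y * k⁻¹ := by
  haveI : Fact p.Prime := ⟨h.hp⟩
  haveI : Fact q.Prime := ⟨h.hq⟩
  obtain ⟨hK, hsup, hfix, hN⟩ := h.qpart_spec hH hc hcH
  set S := {P : Subgroup G | ∃ k ∈ qpart q H, P = (Subgroup.zpowers c).map (MulAut.conj k).toMonoidHom}
  obtain ⟨n, hn⟩ := ncard_conj_orbit (qpart q H) hK (Subgroup.zpowers c)
  obtain ⟨P, ⟨k, hk, rfl⟩, hPb⟩ := exists_conj_fixed (r := p) (Subgroup.zpowers b)
    (IsPGroup.of_card (n := 1) (by rw [Nat.card_zpowers, h.orderOf_eq hb, pow_one])) S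
    (by
      rintro g hg _ ⟨k, hk, rfl⟩
      have hgH : g ∈ H := Subgroup.zpowers_le.2 hbH hg
      obtain ⟨k', hk', y, hy, rfl⟩ := h.decomp hH hc hcH hgH
      refine ⟨k' * (y * k * y⁻¹), mul_mem hk' ((Subgroup.mem_normalizer_iff.1
        (hN (Subgroup.zpowers_le.2 hcH hy)) _).1 hk), ?_⟩
      rw [map_conj_map_conj, show k' * y * k = k' * (y * k * y⁻¹) * y by group,
        ← map_conj_map_conj (g := k' * (y * k * y⁻¹)) (h := y)]
      congr 1
      exact map_conj_eq_iff.2 (Subgroup.le_normalizer hy))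
    (by
      rw [hn]
      exact fun hd => h.hne ((Nat.prime_dvd_prime_iff_eq h.hp h.hq).1
        (h.hp.dvd_of_dvd_pow hd)).symm)
  have hb' : k⁻¹ * b * k ∈ Subgroup.normalizer (Subgroup.zpowers c : Set G) := by
    rw [← map_conj_eq_iff]
    have h2 := hPb b (Subgroup.mem_zpowers b)
    rw [map_conj_map_conj] at h2
    rw [mul_assoc, ← map_conj_map_conj (g := k⁻¹) (h := b * k), h2, map_conj_map_conj,
      inv_mul_cancel, map_conj_one]
  have hkH := qpart_le q H hk
  obtain ⟨k1, hk1, y, hy, e⟩ := h.decomp hH hc hcH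
    (show k⁻¹ * b * k ∈ H from mul_mem (mul_mem (inv_mem hkH) hbH) hkH)
  have hk1N : k1 ∈ Subgroup.normalizer (Subgroup.zpowers c : Set G) := by
    have := mul_mem hb' (inv_mem (Subgroup.le_normalizer hy : y ∈ Subgroup.normalizer
      (Subgroup.zpowers c : Set G)))
    rwa [e, mul_inv_cancel_right] at this
  have hk1E := h.stab hH hc hcH hk1
    ((Subgroup.mem_normalizer_iff.1 hk1N c).1 (Subgroup.mem_zpowers c))
  have hyH : y ∈ H := Subgroup.zpowers_le.2 hcH hy
  have hcom : Commute k1 y := (hk1E.2 y hyH).symm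
  obtain ⟨m, hm⟩ := hK ⟨k1, hk1⟩
  have hm' : k1 ^ (q ^ m) = 1 := by simpa using congrArg Subtype.val hm
  have hb1 : (k⁻¹ * b * k) ^ p = 1 := by
    have h3 := conj_pow (a := k⁻¹) (b := b) (i := p)
    rw [inv_inv] at h3
    rw [h3, show b ^ p = 1 by rw [← h.orderOf_eq hb, pow_orderOf_eq_one], mul_one, inv_mul_cancel]
  have hy1 : y ^ p = 1 := by
    obtain ⟨i, rfl⟩ := hy
    show (c ^ i) ^ p = 1
    rw [← zpow_natCast (c ^ i), ← zpow_mul, mul_comm, zpow_mul, zpow_natCast,
      show c ^ p = 1 by rw [← h.orderOf_eq hc, pow_orderOf_eq_one], one_zpow]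
  rw [e, hcom.mul_pow, hy1, mul_one] at hb1
  have hk1one : k1 = 1 := by
    rw [← orderOf_eq_one_iff]
    exact Nat.eq_one_of_dvd_coprimes (h.coprime_qpow m) (orderOf_dvd_of_pow_eq_one hm')
      (orderOf_dvd_of_pow_eq_one hb1)
  refine ⟨k, hk, y, hy, ?_⟩
  rw [hk1one, one_mul] at e
  rw [← e]; group

/-- Commuting conjugates generate the same subgroup. -/
theorem Hyp.mem_zpowers_of_commute {b : G} (hb : IsConj a b) (hc : IsConj a c)
    (hbc : Commute b c) : b ∈ Subgroup.zpowers c := by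
  have hH := h.oddSys_pair hb hc
  have hbH : b ∈ Subgroup.closure ({b, c} : Set G) := Subgroup.subset_closure (Or.inl rfl)
  have hcH : c ∈ Subgroup.closure ({b, c} : Set G) := Subgroup.subset_closure (Or.inr rfl)
  have hcomm : ∀ x ∈ Subgroup.closure ({b, c} : Set G), Commute x c := by
    intro x hx
    refine Subgroup.mem_centralizer_singleton_iff.1 ((Subgroup.closure_le _).2 ?_ hx)
    rintro z (rfl | rfl)
    · exact Subgroup.mem_centralizer_singleton_iff.2 hbc.eq
    · exact Subgroup.mem_centralizer_singleton_iff.2 rfl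
  obtain ⟨k, hk, y, hy, e⟩ := h.member hH hc hcH hb hbH
  have hkE := (h.qpart_spec hH hc hcH).2.2.1 k hk (hcomm k (qpart_le q _ hk))
  rw [e, show k * y = y * k from ((hkE.2 y (Subgroup.zpowers_le.2 hcH hy)).symm), mul_inv_cancel_right]
  exact hy

/-- An element normalizing two conjugates and centralizing one centralizes the other. -/
theorem Hyp.norm_cent {n b : G} (hb : IsConj a b) (hc : IsConj a c) (hnc : Commute n c)
    (hnb : n * b * n⁻¹ ∈ Subgroup.zpowers b) : Commute n b := by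
  set H := Subgroup.closure ({b, c} : Set G)
  have hH : OddSys a H := h.oddSys_pair hb hc
  have hbH : b ∈ H := Subgroup.subset_closure (Or.inl rfl)
  have hcH : c ∈ H := Subgroup.subset_closure (Or.inr rfl)
  have hncc : n * c * n⁻¹ = c := mul_inv_eq_iff_eq_mul.2 hnc.eq
  have hnH : n ∈ Subgroup.normalizer (H : Set G) := by
    rw [← map_conj_eq_iff]
    refine Subgroup.eq_of_le_of_card_ge ?_ (le_of_eq (Nat.card_congr
      ((H.equivMapOfInjective _ (MulAut.conj n).injective).toEquiv)))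
    rw [MonoidHom.map_closure, Subgroup.closure_le]
    rintro _ ⟨z, (rfl | rfl), rfl⟩
    · simpa using Subgroup.zpowers_le.2 hbH hnb
    · simpa [hncc] using hcH
  obtain ⟨-, -, -, hN⟩ := h.qpart_spec hH hc hcH
  obtain ⟨k, hk, y, hy, e⟩ := h.member hH hc hcH hb hbH
  have hyH : y ∈ H := Subgroup.zpowers_le.2 hcH hy
  have hny : Commute n y := by
    obtain ⟨i, rfl⟩ := hy
    exact hnc.zpow_right i
  -- modulo the `q`-part both `b` and `n b n⁻¹` are `y`
  have h1 : b * y⁻¹ ∈ qpart q H := e ▸ h.conj_comm_mem hH hc hcH hk hyH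
  have hnK : n ∈ Subgroup.normalizer (qpart q H : Set G) := qpart_conj_mem hnH
  have h2 : n * b * n⁻¹ * y⁻¹ ∈ qpart q H := by
    have h3 := (Subgroup.mem_normalizer_iff.1 hnK _).1 h1
    rwa [show n * (b * y⁻¹) * n⁻¹ = n * b * n⁻¹ * (n * y * n⁻¹)⁻¹ by group,
      mul_inv_eq_iff_eq_mul.2 hny.eq] at h3
  have h4 : n * b * n⁻¹ * b⁻¹ = 1 := by
    refine h.qpart_inter hH hb hbH ?_ (mul_mem hnb (inv_mem (Subgroup.mem_zpowers b)))
    have := mul_mem h2 (inv_mem h1)
    rwa [show n * b * n⁻¹ * y⁻¹ * (b * y⁻¹)⁻¹ = n * b * n⁻¹ * b⁻¹ by group] at this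
  exact mul_inv_eq_iff_eq_mul.1 (mul_inv_eq_one.1 h4)

end CfsgLib.PairGen
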