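import Mathlib

/-!
# Fixed points of `r`-groups on sets of subgroups
-/

set_option autoImplicit false

namespace CfsgLib.PairGen

open scoped Pointwise

variable {G : Type*} [Group G]

theorem map_conj_map_conj (H : Subgroup G) (g h : G) :
    (H.map (MulAut.conj h).toMonoidHom).map (MulAut.conj g).toMonoidHom =
      H.map (MulAut.conj (g * h)).toMonoidHom := by
  rw [Subgroup.map_map]
  congr 1
  ext x
  simp [mul_assoc]

theorem map_conj_one (H : Subgroup G) : H.map (MulAut.conj (1 : G)).toMonoidHom = H := by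
  ext x
  simp [Subgroup.mem_map]

theorem mem_map_conj {H : Subgroup G} {g x : G} :
    x ∈ H.map (MulAut.conj g).toMonoidHom ↔ g⁻¹ * x * g ∈ H := by
  constructor
  · rintro ⟨y, hy, rfl⟩
    simpa [mul_assoc] using hy
  · intro h
    exact ⟨_, h, by simp [mul_assoc]⟩

theorem conj_mem_map_conj {H : Subgroup G} {g x : G} (hx : x ∈ H) :
    g * x * g⁻¹ ∈ H.map (MulAut.conj g).toMonoidHom := ⟨x, hx, by simp⟩

theorem map_conj_eq_iff {H : Subgroup G} {g : G} :
    H.map (MulAut.conj g).toMonoidHom = H ↔ g ∈ Subgroup.normalizer (H : Set G) :=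
  Subgroup.mem_normalizer_iff_map_conj_eq.symm

theorem zpowers_map_conj (g x : G) :
    (Subgroup.zpowers x).map (MulAut.conj g).toMonoidHom = Subgroup.zpowers (g * x * g⁻¹) := by
  rw [MonoidHom.map_zpowers]; simp

variable [Finite G] {r : ℕ} [Fact r.Prime]

/-- An `r`-group permuting a set of subgroups whose size is prime to `r` fixes one of them. -/
theorem exists_conj_fixed (P : Subgroup G) (hP : IsPGroup r P) (S : Set (Subgroup G))
    (hS : ∀ g ∈ P, ∀ H ∈ S, H.map (MulAut.conj g).toMonoidHom ∈ S) (hcard : ¬ r ∣ S.ncard) :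
    ∃ H ∈ S, ∀ g ∈ P, H.map (MulAut.conj g).toMonoidHom = H := by
  letI : MulAction P S :=
    { smul := fun g H => ⟨_, hS g g.2 H H.2⟩
      one_smul := fun H => Subtype.ext (map_conj_one _)
      mul_smul := fun g h H => Subtype.ext (map_conj_map_conj _ _ _).symm }
  obtain ⟨H, hH⟩ := hP.nonempty_fixed_point_of_prime_not_dvd_card S
    (by rwa [Nat.card_coe_set_eq])
  exact ⟨H, H.2, fun g hg => congrArg Subtype.val (hH ⟨g, hg⟩)⟩

/-- If moreover `r` divides the size of the set and one member is fixed, another one is. -/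
theorem exists_conj_fixed_ne (P : Subgroup G) (hP : IsPGroup r P) (S : Set (Subgroup G))
    (hS : ∀ g ∈ P, ∀ H ∈ S, H.map (MulAut.conj g).toMonoidHom ∈ S) (hcard : r ∣ S.ncard)
    {H₀ : Subgroup G} (h₀ : H₀ ∈ S) (h₀f : ∀ g ∈ P, H₀.map (MulAut.conj g).toMonoidHom = H₀) :
    ∃ H ∈ S, H ≠ H₀ ∧ ∀ g ∈ P, H.map (MulAut.conj g).toMonoidHom = H := by
  letI : MulAction P S :=
    { smul := fun g H => ⟨_, hS g g.2 H H.2⟩
      one_smul := fun H => Subtype.ext (map_conj_one _)
      mul_smul := fun g h H => Subtype.ext (map_conj_map_conj _ _ _).symm }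
  obtain ⟨H, hH, hne⟩ := hP.exists_fixed_point_of_prime_dvd_card_of_fixed_point S
    (by rwa [Nat.card_coe_set_eq]) (a := ⟨H₀, h₀⟩) (fun g => Subtype.ext (h₀f g g.2))
  exact ⟨H, H.2, fun h => hne (Subtype.ext h.symm), fun g hg => congrArg Subtype.val (hH ⟨g, hg⟩)⟩

/-- The orbit of a subgroup under an `r`-group has `r`-power size. -/
theorem ncard_conj_orbit (K : Subgroup G) (hK : IsPGroup r K) (A : Subgroup G) :
    ∃ n : ℕ, {P : Subgroup G | ∃ k ∈ K, P = A.map (MulAut.conj k).toMonoidHom}.ncard = r ^ n := by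
  letI : MulAction K (Subgroup G) :=
    { smul := fun g H => H.map (MulAut.conj (g : G)).toMonoidHom
      one_smul := fun H => map_conj_one _
      mul_smul := fun g h H => (map_conj_map_conj _ _ _).symm }
  obtain ⟨n, hn⟩ := hK.card_orbit A
  refine ⟨n, ?_⟩
  rw [← hn, Nat.card_coe_set_eq]
  congr 1
  ext P
  simp only [Set.mem_ofPred_eq, MulAction.mem_orbit_iff]
  exact ⟨fun ⟨k, hk, e⟩ => ⟨⟨k, hk⟩, e.symm⟩, fun ⟨k, e⟩ => ⟨k, k.2, e.symm⟩⟩

end CfsgLib.PairGen
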