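import Cfsg.Agent.PairGen.Start
import Cfsg.Agent.Solvable.PGroupBasic

/-!
# The standing hypothesis follows from the original one
-/

set_option autoImplicit false
set_option linter.unusedSectionVars false
set_option linter.style.haveILetI false

namespace CfsgLib.PairGen

open scoped commutatorElement Pointwise

variable {G : Type*} [Group G] [Finite G] {p q : ℕ} {a : G}

/-- In every pair no `q`-element is centralized. -/
def Fpf (q : ℕ) (a : G) : Prop :=
  ∀ b c, IsConj a b → IsConj a c → b ∉ Subgroup.zpowers c →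
    ∀ x ∈ qpart q (Subgroup.closure ({b, c} : Set G)), Commute x c → x = 1

theorem oddSys_pair' (h : Start p q a) {b c : G} (hb : IsConj a b) (hc : IsConj a c) :
    OddSys a (Subgroup.closure ({b, c} : Set G)) := by
  refine ⟨le_antisymm (mclos_le a _) ?_, h.pair b c hb hc⟩
  rw [Subgroup.closure_le]
  rintro x (rfl | rfl)
  · exact mem_mclos hb (Subgroup.subset_closure (Or.inl rfl))
  · exact mem_mclos hc (Subgroup.subset_closure (Or.inr rfl))

variable {c : G} {H : Subgroup G} (h : Start p q a)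

include h

theorem Start.qpart_struct (hH : OddSys a H) (hc : IsConj a c) (hcH : c ∈ H) :
    IsPGroup q (qpart q H) ∧ H ≤ Subgroup.normalizer (qpart q H : Set G) ∧
      H = qpart q H ⊔ Subgroup.zpowers c := by
  obtain ⟨R, hRH, hR, hN, hsup⟩ := h.struct hH hc hcH
  rw [qpart_eq h.hp h.hq h.hne (h.orderOf_eq hc) hR (hN hcH) hsup]
  exact ⟨hR, hN, hsup⟩

theorem Start.not_dvd_qpart (hH : OddSys a H) (hc : IsConj a c) (hcH : c ∈ H) :
    ¬ p ∣ Nat.card (qpart q H) := by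
  haveI : Fact q.Prime := ⟨h.hq⟩
  obtain ⟨n, hn⟩ := IsPGroup.iff_card.1 (h.qpart_struct hH hc hcH).1
  exact hn ▸ pow_card_not_dvd h.hq h.hp h.hne n

theorem Start.eq_one_of_qpart_zpowers (hH : OddSys a H) (hc : IsConj a c) (hcH : c ∈ H) {x : G}
    (hx : x ∈ qpart q H) {d : G} (hd : IsConj a d) (hxd : x ∈ Subgroup.zpowers d) : x = 1 := by
  rw [← orderOf_eq_one_iff]
  refine Nat.eq_one_of_dvd_coprimes (h.hp.coprime_iff_not_dvd.2 (h.not_dvd_qpart hH hc hcH)) ?_
    (Subgroup.orderOf_dvd_natCard _ hx)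
  have := Subgroup.orderOf_dvd_natCard _ hxd
  rwa [Nat.card_zpowers, h.orderOf_eq hd] at this

/-- A conjugate in `H` is a conjugate of a power of `c` by an element of the `q`-group. -/
theorem Start.member_pow (hH : OddSys a H) (hc : IsConj a c) (hcH : c ∈ H) {b : G}
    (hb : IsConj a b) (hbH : b ∈ H) : ∃ k ∈ qpart q H, ∃ i : ℤ, b = (k * c * k⁻¹) ^ i := by
  haveI : Fact p.Prime := ⟨h.hp⟩
  obtain ⟨-, hN, hsup⟩ := h.qpart_struct hH hc hcH
  obtain ⟨k, hkH, i, hi⟩ := exists_conj_zpowers (n := Nat.card (qpart q H)) (h.orderOf_eq hc) hcH hbH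
    (by rw [← h.orderOf_eq hb, pow_orderOf_eq_one])
    (by
      rw [← h.orderOf_eq hc]
      conv_lhs => rw [hsup]
      exact card_sup_zpowers_dvd (hN hcH)) (h.not_dvd_qpart hH hc hcH)
  have hk' : k ∈ ((qpart q H ⊔ Subgroup.zpowers c : Subgroup G) : Set G) := hsup ▸ hkH
  rw [Subgroup.coe_mul_of_right_le_normalizer_left _ _ (Subgroup.zpowers_le.2 (hN hcH))] at hk'
  obtain ⟨k0, hk0, w, ⟨j, rfl⟩, rfl⟩ := hk'
  refine ⟨k0, hk0, i, hi.symm.trans ?_⟩
  show (k0 * c ^ j * c * (k0 * c ^ j)⁻¹) ^ i = _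
  rw [show k0 * c ^ j * c * (k0 * c ^ j)⁻¹ = k0 * c * k0⁻¹ by group]

/-- If moreover it is congruent to `c` the power is trivial. -/
theorem Start.member_one (hH : OddSys a H) (hc : IsConj a c) (hcH : c ∈ H) {b : G}
    (hb : IsConj a b) (hbH : b ∈ H) {T : Subgroup G} (hT : OddSys a T) (hHT : H ≤ T)
    (hbc : b * c⁻¹ ∈ qpart q T) : ∃ k ∈ qpart q H, b = k * c * k⁻¹ := by
  obtain ⟨k, hk, i, e⟩ := h.member_pow hH hc hcH hb hbH
  have hcT := hHT hcH
  have hN := (h.qpart_struct hT hc hcT).2.1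
  have hk' : k ∈ qpart q T := qpart_mono hHT hk
  have hci : c ^ i ∈ Subgroup.normalizer (qpart q T : Set G) := hN (zpow_mem hcT i)
  have h1 : b * (c ^ i)⁻¹ ∈ qpart q T := by
    rw [e, conj_zpow, show k * c ^ i * k⁻¹ * (c ^ i)⁻¹ = k * (c ^ i * k⁻¹ * (c ^ i)⁻¹) by group]
    exact mul_mem hk' ((Subgroup.mem_normalizer_iff.1 hci _).1 (inv_mem hk'))
  have h2 : c * (c ^ i)⁻¹ = 1 := by
    refine h.eq_one_of_qpart_zpowers hT hc hcT ?_ hc
      (mul_mem (Subgroup.mem_zpowers c) (inv_mem (zpow_mem (Subgroup.mem_zpowers c) i)))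
    rw [show c * (c ^ i)⁻¹ = (b * c⁻¹)⁻¹ * (b * (c ^ i)⁻¹) by group]
    exact mul_mem (inv_mem hbc) h1
  exact ⟨k, hk, by rw [e, conj_zpow, ← mul_inv_eq_one.1 h2]⟩

theorem Start.fpf_or_mixed : Fpf q a ∨ ∀ b c, IsConj a b → IsConj a c → b ∉ Subgroup.zpowers c →
    ∃ x ∈ qpart q (Subgroup.closure ({b, c} : Set G)), Commute x c ∧ x ≠ 1 := by
  by_cases hf : Fpf q a
  · exact Or.inl hf
  refine Or.inr fun b' c' hb' hc' hbc' => ?_
  simp only [Fpf] at hf
  push Not at hf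
  obtain ⟨b, c, hb, hc, hbc, x, hx, hxc, hx1⟩ := hf
  haveI : Fact p.Prime := ⟨h.hp⟩
  haveI : Fact q.Prime := ⟨h.hq⟩
  obtain ⟨e⟩ := h.iso b c b' c' hb hc hb' hc' hbc hbc'
  set P := Subgroup.closure ({b, c} : Set G)
  set P' := Subgroup.closure ({b', c'} : Set G)
  have hP := oddSys_pair' h hb hc
  have hP' := oddSys_pair' h hb' hc'
  have hcP : c ∈ P := Subgroup.subset_closure (Or.inr rfl)
  have hcP' : c' ∈ P' := Subgroup.subset_closure (Or.inr rfl)
  set x' : P' := e ⟨x, qpart_le q P hx⟩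
  set y' : P' := e ⟨c, hcP⟩
  have hoy : orderOf (y' : G) = p := by
    rw [Subgroup.orderOf_coe, MulEquiv.orderOf_eq, ← Subgroup.orderOf_coe]
    exact h.orderOf_eq hc
  obtain ⟨n, hn⟩ := IsPGroup.iff_orderOf.1 (h.qpart_struct hP hc hcP).1 ⟨x, hx⟩
  rw [Subgroup.orderOf_mk] at hn
  obtain ⟨-, hN', hsup'⟩ := h.qpart_struct hP' hc' hcP'
  obtain ⟨k, hk, i, hi⟩ := exists_conj_zpowers (n := Nat.card (qpart q P')) (h.orderOf_eq hc') hcP'
    y'.2 (by rw [← hoy, pow_orderOf_eq_one])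
    (by
      rw [← h.orderOf_eq hc']
      conv_lhs => rw [show P' = qpart q P' ⊔ Subgroup.zpowers c' from hsup']
      exact card_sup_zpowers_dvd (hN' hcP')) (h.not_dvd_qpart hP' hc' hcP')
  simp only at hi
  have hcom : Commute (x' : G) (k * c' * k⁻¹) := by
    have h1 : Commute (x' : G) ((k * c' * k⁻¹) ^ i) := by
      rw [hi]
      have h0 : Commute (⟨x, qpart_le q P hx⟩ : P) ⟨c, hcP⟩ := Subtype.ext hxc.eq
      exact congrArg Subtype.val (h0.map e.toMonoidHom).eq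
    -- `k c' k⁻¹` is a power of its power
    obtain ⟨j, hj⟩ : ∃ j : ℕ, ((k * c' * k⁻¹) ^ i) ^ j = k * c' * k⁻¹ := by
      have hord : orderOf (k * c' * k⁻¹) = p := h.orderOf_eq (isConj_conj hc' k)
      have hle : Subgroup.zpowers (k * c' * k⁻¹) ≤ Subgroup.zpowers ((k * c' * k⁻¹) ^ i) := by
        refine le_of_eq (Subgroup.eq_of_le_of_card_ge
          (Subgroup.zpowers_le.2 (zpow_mem (Subgroup.mem_zpowers _) i)) ?_).symm
        rw [Nat.card_zpowers, Nat.card_zpowers, hi, hoy, hord]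
      obtain ⟨j, hj⟩ := mem_powers_iff_mem_zpowers.2 (hle (Subgroup.mem_zpowers _))
      exact ⟨j, hj⟩
    exact hj ▸ h1.pow_right j
  refine ⟨k⁻¹ * x' * k, ?_, ?_, ?_⟩
  · refine Subgroup.subset_closure ⟨mul_mem (mul_mem (inv_mem hk) x'.2) hk, n, ?_⟩
    have h3 := orderOf_injective (MulAut.conj k⁻¹).toMonoidHom (MulAut.conj k⁻¹).injective (x' : G)
    simp only [MulEquiv.coe_toMonoidHom, MulAut.conj_apply, inv_inv] at h3
    rw [h3, Subgroup.orderOf_coe, MulEquiv.orderOf_eq, ← Subgroup.orderOf_coe]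
    exact hn
  · show k⁻¹ * x' * k * c' = c' * (k⁻¹ * x' * k)
    calc k⁻¹ * x' * k * c' = k⁻¹ * ((x' : G) * (k * c' * k⁻¹)) * k := by group
      _ = k⁻¹ * (k * c' * k⁻¹ * x') * k := by rw [hcom.eq]
      _ = c' * (k⁻¹ * x' * k) := by group
  · intro h1
    apply hx1
    have h2 : x' = 1 := Subtype.ext (by
      show (x' : G) = 1
      calc (x' : G) = k * (k⁻¹ * x' * k) * k⁻¹ := by group
        _ = 1 := by rw [h1]; group)
    exact congrArg Subtype.val ((MulEquiv.map_eq_one_iff e).1 h2)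

theorem Start.fpf_fixed (hf : Fpf q a) (hH : OddSys a H) (hc : IsConj a c) (hcH : c ∈ H) :
    ∀ x ∈ qpart q H, Commute x c → x = 1 := by
  obtain ⟨hR, hN, hsup⟩ := h.qpart_struct hH hc hcH
  set R := qpart q H
  set C1 : Set G := (fun k => k * c * k⁻¹) '' (R : Set G)
  have hsq : ∀ x ∈ C1, ∀ y ∈ C1, ∃ k ∈ R, x * y = k * c ^ 2 * k⁻¹ := by
    rintro x ⟨k0, hk0, rfl⟩ y ⟨k1, hk1, rfl⟩
    simp only
    set x := k0 * c * k0⁻¹ with hxdef
    set y := k1 * c * k1⁻¹ with hydef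
    have hx : IsConj a x := isConj_conj hc k0
    have hy : IsConj a y := isConj_conj hc k1
    have hxH : x ∈ H := mul_mem (mul_mem (qpart_le q H hk0) hcH) (inv_mem (qpart_le q H hk0))
    have hyH : y ∈ H := mul_mem (mul_mem (qpart_le q H hk1) hcH) (inv_mem (qpart_le q H hk1))
    have hyx : y * x⁻¹ ∈ R := by
      rw [show y * x⁻¹ = (k1 * (c * k1⁻¹ * c⁻¹)) * (k0 * (c * k0⁻¹ * c⁻¹))⁻¹ by
        rw [hxdef, hydef]; group]
      exact mul_mem (mul_mem hk1 ((Subgroup.mem_normalizer_iff.1 (hN hcH) _).1 (inv_mem hk1)))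
        (inv_mem (mul_mem hk0 ((Subgroup.mem_normalizer_iff.1 (hN hcH) _).1 (inv_mem hk0))))
    suffices ∃ k ∈ R, x * y = k * x ^ 2 * k⁻¹ by
      obtain ⟨k, hk, e⟩ := this
      refine ⟨k * k0, mul_mem hk hk0, ?_⟩
      rw [e, hxdef, pow_two, pow_two]; group
    by_cases hd : y ∈ Subgroup.zpowers x
    · have h1 : y * x⁻¹ = 1 := h.eq_one_of_qpart_zpowers hH hc hcH hyx hx
        (mul_mem hd (inv_mem (Subgroup.mem_zpowers x)))
      exact ⟨1, one_mem _, by rw [mul_inv_eq_one.1 h1, pow_two]; group⟩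
    set P := Subgroup.closure ({y, x} : Set G)
    have hP := oddSys_pair' h hy hx
    have hxP : x ∈ P := Subgroup.subset_closure (Or.inr rfl)
    have hPH : P ≤ H := (Subgroup.closure_le H).2 (by
      rintro z (rfl | rfl)
      · exact hyH
      · exact hxH)
    obtain ⟨-, hNP, -⟩ := h.qpart_struct hP hx hxP
    obtain ⟨k2, hk2, e2⟩ := h.member_one hP hx hxP hy (Subgroup.subset_closure (Or.inl rfl)) hH hPH
      hyx
    set RP := qpart q P
    have hnx : x ^ 2 ∈ Subgroup.normalizer (RP : Set G) := hNP (pow_mem hxP 2)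
    let φ : RP → RP := fun k => ⟨k * (x ^ 2) * (k : G)⁻¹ * (x ^ 2)⁻¹, by
      rw [show (k : G) * x ^ 2 * (k : G)⁻¹ * (x ^ 2)⁻¹ = k * (x ^ 2 * (k : G)⁻¹ * (x ^ 2)⁻¹) by
        group]
      exact mul_mem k.2 ((Subgroup.mem_normalizer_iff.1 hnx _).1 (inv_mem k.2))⟩
    have hφ : Function.Injective φ := by
      intro u v huv
      have h1 := congrArg Subtype.val huv
      simp only [φ, mul_left_inj] at h1
      have h2 : Commute ((v : G)⁻¹ * u) (x ^ 2) := by
        show (v : G)⁻¹ * u * x ^ 2 = x ^ 2 * ((v : G)⁻¹ * u)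
        calc (v : G)⁻¹ * u * x ^ 2 = (v : G)⁻¹ * (u * x ^ 2 * (u : G)⁻¹) * u := by group
          _ = (v : G)⁻¹ * (v * x ^ 2 * (v : G)⁻¹) * u := by rw [h1]
          _ = x ^ 2 * ((v : G)⁻¹ * u) := by group
      have h3 : Commute ((v : G)⁻¹ * u) x := by
        obtain ⟨m, hm⟩ := h.hpodd
        have e : x = (x ^ 2) ^ (m + 1) := by
          rw [← pow_mul, show 2 * (m + 1) = p + 1 by omega, pow_succ, ← h.orderOf_eq hx,
            pow_orderOf_eq_one, one_mul]
        rw [e]; exact h2.pow_right _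
      exact Subtype.ext (inv_mul_eq_one.1 (hf y x hy hx hd _ (mul_mem (inv_mem v.2) u.2) h3)).symm
    have hmem : x * y * (x ^ 2)⁻¹ ∈ RP := by
      have h4 : y * x⁻¹ ∈ RP := by
        rw [e2, show k2 * x * k2⁻¹ * x⁻¹ = k2 * (x * k2⁻¹ * x⁻¹) by group]
        exact mul_mem hk2 ((Subgroup.mem_normalizer_iff.1 (hNP hxP) _).1 (inv_mem hk2))
      rw [pow_two, show x * y * (x * x)⁻¹ = x * (y * x⁻¹) * x⁻¹ by group]
      exact (Subgroup.mem_normalizer_iff.1 (hNP hxP) _).1 h4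
    obtain ⟨k, hk⟩ := Finite.surjective_of_injective hφ ⟨_, hmem⟩
    exact ⟨k, qpart_mono hPH k.2, (mul_left_inj _).1 (congrArg Subtype.val hk).symm⟩
  set C2 : Set G := (fun y => y ^ 2) '' C1
  have hfin : C1.Finite := Set.toFinite _
  have hsmul : ∀ x ∈ C1, x • C1 = C2 := by
    intro x hx
    refine Set.eq_of_subset_of_ncard_le ?_ ?_ (Set.toFinite _)
    · rintro _ ⟨y, hy, rfl⟩
      obtain ⟨k, hk, e⟩ := hsq x hx y hy
      refine ⟨k * c * k⁻¹, ⟨k, hk, rfl⟩, ?_⟩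
      show (k * c * k⁻¹) ^ 2 = x * y
      rw [e, conj_pow]
    · rw [show (x • C1).ncard = C1.ncard from
        Set.ncard_image_of_injective _ (mul_right_injective x)]
      exact Set.ncard_image_le hfin
  set M := MulAction.stabilizer G C1
  have hcC : c ∈ C1 := ⟨1, one_mem _, by group⟩
  have hM : ∀ x ∈ C1, c⁻¹ * x ∈ M := fun x hx => by
    rw [MulAction.mem_stabilizer_iff, mul_smul, hsmul x hx, ← hsmul c hcC, inv_smul_smul]
  set N := Subgroup.closure ((fun x => c⁻¹ * x) '' C1)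
  have hNR : N ≤ R := by
    rw [Subgroup.closure_le]
    rintro _ ⟨_, ⟨k, hk, rfl⟩, rfl⟩
    show c⁻¹ * (k * c * k⁻¹) ∈ R
    rw [show c⁻¹ * (k * c * k⁻¹) = (c⁻¹ * k * (c⁻¹)⁻¹) * k⁻¹ by group]
    exact mul_mem ((Subgroup.mem_normalizer_iff.1 (hN (inv_mem hcH)) _).1 hk) (inv_mem hk)
  have hcN : c ∈ Subgroup.normalizer (N : Set G) := by
    rw [← map_conj_eq_iff]
    refine Subgroup.eq_of_le_of_card_ge ?_
      (Subgroup.card_map_of_injective (MulAut.conj c).injective).ge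
    rw [MonoidHom.map_closure, Subgroup.closure_le]
    rintro _ ⟨_, ⟨_, ⟨k, hk, rfl⟩, rfl⟩, rfl⟩
    refine Subgroup.subset_closure ⟨_, ⟨c * k * c⁻¹,
      (Subgroup.mem_normalizer_iff.1 (hN hcH) _).1 hk, rfl⟩, ?_⟩
    simp only [MulEquiv.coe_toMonoidHom, MulAut.conj_apply]
    group
  have hRN : R ≤ N := by
    have hle : H ≤ N ⊔ Subgroup.zpowers c := le_of_members hH.closed fun b hb hbH => by
      obtain ⟨k, hk, i, rfl⟩ := h.member_pow hH hc hcH hb hbH
      refine zpow_mem ?_ i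
      rw [show k * c * k⁻¹ = c * (c⁻¹ * (k * c * k⁻¹)) by group]
      exact mul_mem (Subgroup.mem_sup_right (Subgroup.mem_zpowers c))
        (Subgroup.mem_sup_left (Subgroup.subset_closure ⟨_, ⟨k, hk, rfl⟩, rfl⟩))
    intro r hr
    have hr' : r ∈ ((N ⊔ Subgroup.zpowers c : Subgroup G) : Set G) := hle (qpart_le q H hr)
    rw [Subgroup.coe_mul_of_right_le_normalizer_left _ _ (Subgroup.zpowers_le.2 hcN)] at hr'
    obtain ⟨n, hn, w, hw, rfl⟩ := hr'
    have : w = 1 := h.eq_one_of_qpart_zpowers hH hc hcH (by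
      have := mul_mem (inv_mem (hNR hn)) hr
      simpa using this) hc hw
    simp only [this, mul_one]; exact hn
  have hRM : R ≤ M := hRN.trans ((Subgroup.closure_le M).2 (by
    rintro _ ⟨x, hx, rfl⟩; exact hM x hx))
  have hcard : (R : Set G).ncard ≤ C1.ncard := by
    refine Set.ncard_le_ncard_of_injOn (fun r => r * c) (fun r hr => ?_) ?_ hfin
    · have h1 : r • C1 = C1 := MulAction.mem_stabilizer_iff.1 (hRM hr)
      rw [← h1]
      exact ⟨c, hcC, rfl⟩
    · exact fun u _ v _ huv => mul_right_cancel huv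
  have hinj := Set.injOn_of_ncard_image_eq (le_antisymm (Set.ncard_image_le (Set.toFinite _)) hcard)
    (Set.toFinite _)
  intro x hx hxc
  refine hinj hx (one_mem R) ?_
  show x * c * x⁻¹ = 1 * c * 1⁻¹
  rw [mul_inv_eq_iff_eq_mul.2 hxc.eq]; group

/-- An abelian invariant subgroup of the `q`-group is centralized in the other case. -/
theorem Start.abelian_commute
    (hm : ∀ b c, IsConj a b → IsConj a c → b ∉ Subgroup.zpowers c →
      ∃ x ∈ qpart q (Subgroup.closure ({b, c} : Set G)), Commute x c ∧ x ≠ 1)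
    (hH : OddSys a H) (hc : IsConj a c) (hcH : c ∈ H) {U : Subgroup G} (hUR : U ≤ qpart q H)
    (hcU : c ∈ Subgroup.normalizer (U : Set G)) (hab : ∀ x ∈ U, ∀ y ∈ U, Commute x y) :
    ∀ u ∈ U, Commute u c := by
  intro u hu
  by_contra huc
  have hUq : IsPGroup q U := (h.qpart_struct hH hc hcH).1.to_le hUR
  have hUp : ¬ p ∣ Nat.card U := fun hd =>
    h.not_dvd_qpart hH hc hcH (hd.trans (Subgroup.card_dvd_of_le hUR))
  obtain ⟨hb, hle⟩ := h.pair_of_moved hUp hc hcU hu huc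
  set b := u * c * u⁻¹ with hbdef
  have hbc : IsConj a b := isConj_conj hc u
  set P := Subgroup.closure ({b, c} : Set G)
  have hP := oddSys_pair' h hbc hc
  have hcP : c ∈ P := Subgroup.subset_closure (Or.inr rfl)
  obtain ⟨hRP, hNP, -⟩ := h.qpart_struct hP hc hcP
  set RP := qpart q P
  have hRU : RP ≤ U := (qpart_mono hle).trans
    (qpart_eq h.hp h.hq h.hne (h.orderOf_eq hc) hUq hcU rfl).le
  let φ : RP →* RP := MonoidHom.mk' (fun k => ⟨k * c * (k : G)⁻¹ * c⁻¹, by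
      rw [show (k : G) * c * (k : G)⁻¹ * c⁻¹ = k * (c * (k : G)⁻¹ * c⁻¹) by group]
      exact mul_mem k.2 ((Subgroup.mem_normalizer_iff.1 (hNP hcP) _).1 (inv_mem k.2))⟩)
    (fun k1 k2 => Subtype.ext (by
      show ((k1 : G) * k2) * c * ((k1 : G) * k2)⁻¹ * c⁻¹ =
        (k1 * c * (k1 : G)⁻¹ * c⁻¹) * (k2 * c * (k2 : G)⁻¹ * c⁻¹)
      have hk1 : (k1 : G) * c * (k1 : G)⁻¹ * c⁻¹ ∈ U := by
        rw [show (k1 : G) * c * (k1 : G)⁻¹ * c⁻¹ = k1 * (c * (k1 : G)⁻¹ * c⁻¹) by group]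
        exact mul_mem (hRU k1.2) ((Subgroup.mem_normalizer_iff.1 hcU _).1 (inv_mem (hRU k1.2)))
      have ht : (k2 : G) * c * (k2 : G)⁻¹ * c⁻¹ ∈ U := by
        rw [show (k2 : G) * c * (k2 : G)⁻¹ * c⁻¹ = k2 * (c * (k2 : G)⁻¹ * c⁻¹) by group]
        exact mul_mem (hRU k2.2) ((Subgroup.mem_normalizer_iff.1 hcU _).1 (inv_mem (hRU k2.2)))
      calc ((k1 : G) * k2) * c * ((k1 : G) * k2)⁻¹ * c⁻¹
          = k1 * (k2 * c * (k2 : G)⁻¹ * c⁻¹) * (c * (k1 : G)⁻¹ * c⁻¹) := by group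
        _ = (k2 * c * (k2 : G)⁻¹ * c⁻¹) * k1 * (c * (k1 : G)⁻¹ * c⁻¹) := by
            rw [(hab _ (hRU k1.2) _ ht).eq]
        _ = (k2 * c * (k2 : G)⁻¹ * c⁻¹) * (k1 * c * (k1 : G)⁻¹ * c⁻¹) := by group
        _ = _ := (hab _ ht _ hk1).eq))
  set W := φ.range.map RP.subtype
  have hWR : W ≤ RP := Subgroup.map_subtype_le _
  have hcW : c ∈ Subgroup.normalizer (W : Set G) := by
    rw [← map_conj_eq_iff]
    refine Subgroup.eq_of_le_of_card_ge ?_
      (Subgroup.card_map_of_injective (MulAut.conj c).injective).ge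
    rintro _ ⟨_, ⟨_, ⟨k, rfl⟩, rfl⟩, rfl⟩
    refine ⟨φ ⟨c * k * c⁻¹, (Subgroup.mem_normalizer_iff.1 (hNP hcP) _).1 k.2⟩, ⟨_, rfl⟩, ?_⟩
    show c * (k : G) * c⁻¹ * c * (c * (k : G) * c⁻¹)⁻¹ * c⁻¹ =
      c * ((k : G) * c * (k : G)⁻¹ * c⁻¹) * c⁻¹
    group
  have hPW : P = W ⊔ Subgroup.zpowers c := by
    refine le_antisymm ?_ (sup_le (hWR.trans (qpart_le q P)) (Subgroup.zpowers_le.2 hcP))
    rw [Subgroup.closure_le]
    rintro z (rfl | rfl)
    · obtain ⟨k, hk, e⟩ := h.member_one hP hc hcP hbc (Subgroup.subset_closure (Or.inl rfl)) hH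
        ((Subgroup.closure_le H).2 (by
          rintro z (rfl | rfl)
          · exact mul_mem (mul_mem (qpart_le q H (hUR hu)) hcH) (inv_mem (qpart_le q H (hUR hu)))
          · exact hcH))
        (by
          rw [hbdef, show u * c * u⁻¹ * c⁻¹ = u * (c * u⁻¹ * c⁻¹) by group]
          exact mul_mem (hUR hu) (hUR ((Subgroup.mem_normalizer_iff.1 hcU _).1 (inv_mem hu))))
      rw [e, show k * c * k⁻¹ = (k * c * k⁻¹ * c⁻¹) * c by group]
      exact mul_mem (Subgroup.mem_sup_left ⟨φ ⟨k, hk⟩, ⟨_, rfl⟩, rfl⟩)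
        (Subgroup.mem_sup_right (Subgroup.mem_zpowers c))
    · exact Subgroup.mem_sup_right (Subgroup.mem_zpowers _)
  have hsurj : Function.Surjective φ := fun z => by
    have hz : (z : G) ∈ W := by
      rw [← qpart_eq h.hp h.hq h.hne (h.orderOf_eq hc) (hRP.to_le hWR) hcW hPW]
      exact z.2
    obtain ⟨_, ⟨k, rfl⟩, e⟩ := hz
    exact ⟨k, Subtype.ext e⟩
  obtain ⟨x, hx, hxc, hx1⟩ := hm b c hbc hc hb
  have hinj := Finite.injective_iff_surjective.2 hsurj
  refine hx1 (congrArg Subtype.val (@hinj ⟨x, hx⟩ 1 ?_))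
  rw [map_one]
  refine Subtype.ext ?_
  show x * c * x⁻¹ * c⁻¹ = 1
  rw [mul_inv_eq_iff_eq_mul.2 hxc.eq, mul_inv_cancel]

/-- A subgroup-generating set of commuting elements permuted by `c`. -/
theorem Start.set_commute
    (hm : ∀ b c, IsConj a b → IsConj a c → b ∉ Subgroup.zpowers c →
      ∃ x ∈ qpart q (Subgroup.closure ({b, c} : Set G)), Commute x c ∧ x ≠ 1)
    (hH : OddSys a H) (hc : IsConj a c) (hcH : c ∈ H) {T : Set G} (hT : T ⊆ qpart q H)
    (hTc : ∀ u ∈ T, c * u * c⁻¹ ∈ T) (hcom : ∀ u ∈ T, ∀ v ∈ T, Commute u v) :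
    ∀ u ∈ T, Commute u c := by
  intro u hu
  refine h.abelian_commute hm hH hc hcH (U := Subgroup.closure T) ((Subgroup.closure_le _).2 hT) ?_
    ?_ u (Subgroup.subset_closure hu)
  · rw [← map_conj_eq_iff]
    refine Subgroup.eq_of_le_of_card_ge ?_
      (Subgroup.card_map_of_injective (MulAut.conj c).injective).ge
    rw [MonoidHom.map_closure, Subgroup.closure_le]
    rintro _ ⟨v, hv, rfl⟩
    exact Subgroup.subset_closure (by simpa using hTc v hv)
  · intro x hx y hy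
    have h1 : Subgroup.closure T ≤ Subgroup.centralizer T :=
      (Subgroup.closure_le _).2 fun v hv w hw => (hcom w hw v hv).eq
    have h2 : Subgroup.closure T ≤ Subgroup.centralizer ({x} : Set G) :=
      (Subgroup.closure_le _).2 fun v hv => Subgroup.mem_centralizer_singleton_iff.2 (h1 hx v hv)
    exact (Subgroup.mem_centralizer_singleton_iff.1 (h2 hy)).symm

theorem Start.special
    (hm : ∀ b c, IsConj a b → IsConj a c → b ∉ Subgroup.zpowers c →
      ∃ x ∈ qpart q (Subgroup.closure ({b, c} : Set G)), Commute x c ∧ x ≠ 1)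
    (hH : OddSys a H) (hc : IsConj a c) (hcH : c ∈ H) :
    (∀ x ∈ qpart q H, ∀ y ∈ qpart q H, ⁅x, y⁆ ∈ Subgroup.centralizer (H : Set G)) ∧
      ∀ x ∈ qpart q H, Commute x c → x ∈ Subgroup.centralizer (H : Set G) := by
  haveI : Fact q.Prime := ⟨h.hq⟩
  obtain ⟨hR, hN, hsup⟩ := h.qpart_struct hH hc hcH
  set R := qpart q H
  set Z := Subgroup.centralizer (R : Set G)
  -- elements commuting with `R` and `c` centralize `H`
  have hcent : ∀ u, u ∈ Z → Commute u c → u ∈ Subgroup.centralizer (H : Set G) := by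
    intro u hu huc
    have h1 : H ≤ Subgroup.centralizer ({u} : Set G) := by
      rw [hsup]
      exact sup_le (fun y hy => Subgroup.mem_centralizer_singleton_iff.2 (hu y hy))
        (Subgroup.zpowers_le.2 (Subgroup.mem_centralizer_singleton_iff.2 huc.eq.symm))
    exact fun y hy => Subgroup.mem_centralizer_singleton_iff.1 (h1 hy)
  have hcR : ∀ g ∈ R, c * g * c⁻¹ ∈ R := fun g hg => (Subgroup.mem_normalizer_iff.1 (hN hcH) g).1 hg
  have hcR' : ∀ g ∈ R, c⁻¹ * g * c ∈ R := fun g hg => by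
    simpa using (Subgroup.mem_normalizer_iff.1 (hN (inv_mem hcH)) g).1 hg
  have hcZ : ∀ u ∈ Z, c * u * c⁻¹ ∈ Z := fun u hu y hy => by
    have h1 := hu _ (hcR' y hy)
    calc y * (c * u * c⁻¹) = c * (c⁻¹ * y * c * u) * c⁻¹ := by group
      _ = c * (u * (c⁻¹ * y * c)) * c⁻¹ := by rw [h1]
      _ = c * u * c⁻¹ * y := by group
  -- the centre of `R` is centralized
  have hZc : ∀ u ∈ R, u ∈ Z → Commute u c := fun u hu huZ =>
    h.set_commute hm hH hc hcH (T := {u | u ∈ R ∧ u ∈ Z}) (fun v hv => hv.1)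
      (fun v hv => ⟨hcR v hv.1, hcZ v hv.2⟩) (fun v hv w hw => hw.2 v hv.1) u ⟨hu, huZ⟩
  set D := ⁅R, R⁆
  have hDR : D ≤ R := Subgroup.commutator_le_self R
  have hcD : ∀ u ∈ D, c * u * c⁻¹ ∈ D := fun u hu => by
    have h1 : D.map (MulAut.conj c).toMonoidHom = D := by
      rw [Subgroup.map_commutator, map_conj_eq_iff.2 (hN hcH)]
    exact h1 ▸ conj_mem_map_conj hu
  -- elements of the derived group central modulo the centre are central
  have hT : ∀ u ∈ D, (∀ g ∈ R, g * u * g⁻¹ * u⁻¹ ∈ Z) → u ∈ Z := by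
    intro u0 hu0 hu0'
    set T : Set G := {u | u ∈ D ∧ ∀ g ∈ R, g * u * g⁻¹ * u⁻¹ ∈ Z}
    have hTD : ∀ u ∈ T, ∀ v ∈ D, Commute u v := by
      intro u hu v hv
      have hg : ∀ g ∈ R, ∀ k ∈ R, Commute u (g⁻¹ * k⁻¹ * g * k) := by
        intro g hg k hk
        have hzg := hu.2 g hg
        have hzk := hu.2 k hk
        set zg := g * u * g⁻¹ * u⁻¹ with hzgdef
        set zk := k * u * k⁻¹ * u⁻¹ with hzkdef
        have hzgR : zg ∈ R := mul_mem (mul_mem (mul_mem hg (hDR hu.1)) (inv_mem hg)) (inv_mem (hDR hu.1))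
        have e1 : (g * k) * u * (g * k)⁻¹ = zk * zg * u := by
          calc (g * k) * u * (g * k)⁻¹ = g * (zk * u) * g⁻¹ := by rw [hzkdef]; group
            _ = g * zk * (u * g⁻¹) := by group
            _ = zk * g * (u * g⁻¹) := by rw [hzk g hg]
            _ = zk * zg * u := by rw [hzgdef]; group
        have e2 : (k * g) * u * (k * g)⁻¹ = zg * zk * u := by
          calc (k * g) * u * (k * g)⁻¹ = k * (zg * u) * k⁻¹ := by rw [hzgdef]; group
            _ = k * zg * (u * k⁻¹) := by group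
            _ = zg * k * (u * k⁻¹) := by rw [hzg k hk]
            _ = zg * zk * u := by rw [hzkdef]; group
        have e3 : (g * k) * u * (g * k)⁻¹ = (k * g) * u * (k * g)⁻¹ := by
          rw [e1, e2, hzk zg hzgR]
        show u * (g⁻¹ * k⁻¹ * g * k) = g⁻¹ * k⁻¹ * g * k * u
        calc u * (g⁻¹ * k⁻¹ * g * k) = (k * g)⁻¹ * ((k * g) * u * (k * g)⁻¹) * (g * k) := by group
          _ = (k * g)⁻¹ * ((g * k) * u * (g * k)⁻¹) * (g * k) := by rw [e3]
          _ = g⁻¹ * k⁻¹ * g * k * u := by group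
      have hle : D ≤ Subgroup.centralizer ({u} : Set G) := by
        rw [Subgroup.commutator_le]
        intro g hg' k hk
        have h1 := hg g⁻¹ (inv_mem hg') k⁻¹ (inv_mem hk)
        rw [inv_inv, inv_inv] at h1
        exact Subgroup.mem_centralizer_singleton_iff.2 (h1.symm.eq.trans rfl)
      exact (Subgroup.mem_centralizer_singleton_iff.1 (hle hv)).symm
    have huc : Commute u0 c := h.set_commute hm hH hc hcH (T := T) (fun v hv => hDR hv.1)
      (fun v hv => ⟨hcD v hv.1, fun g hg => by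
        have := hcZ _ (hv.2 _ (hcR' g hg))
        rwa [show c * (c⁻¹ * g * c * v * (c⁻¹ * g * c)⁻¹ * v⁻¹) * c⁻¹ =
          g * (c * v * c⁻¹) * g⁻¹ * (c * v * c⁻¹)⁻¹ by group] at this⟩)
      (fun v hv w hw => hTD v hv w hw.1) u0 ⟨hu0, hu0'⟩
    -- then it commutes with every conjugate of `c`
    have hmem : ∀ g ∈ R, Commute u0 (g * c * g⁻¹) := by
      intro g hg
      have hzR : g⁻¹ * u0 * g * u0⁻¹ ∈ R :=
        mul_mem (mul_mem (mul_mem (inv_mem hg) (hDR hu0)) hg) (inv_mem (hDR hu0))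
      have hzZ : g⁻¹ * u0 * g * u0⁻¹ ∈ Z := by simpa using hu0' g⁻¹ (inv_mem hg)
      have hzc := hZc _ hzR hzZ
      set z := g⁻¹ * u0 * g * u0⁻¹ with hz
      have h1 : Commute (z * u0) c := hzc.mul_left huc
      rw [show z * u0 = g⁻¹ * u0 * g by rw [hz]; group] at h1
      show u0 * (g * c * g⁻¹) = g * c * g⁻¹ * u0
      calc u0 * (g * c * g⁻¹) = g * (g⁻¹ * u0 * g * c) * g⁻¹ := by group
        _ = g * (c * (g⁻¹ * u0 * g)) * g⁻¹ := by rw [h1.eq]
        _ = g * c * g⁻¹ * u0 := by group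
    have hle : H ≤ Subgroup.centralizer ({u0} : Set G) := le_of_members hH.closed fun b hb hbH => by
      obtain ⟨k, hk, i, rfl⟩ := h.member_pow hH hc hcH hb hbH
      exact zpow_mem (Subgroup.mem_centralizer_singleton_iff.2 (hmem k hk).symm.eq) i
    exact fun y hy => Subgroup.mem_centralizer_singleton_iff.1 (hle (qpart_le q H hy))
  have hDZ : D ≤ Z := by
    haveI : Group.IsNilpotent R := hR.isNilpotent
    intro v hv
    set f := QuotientGroup.mk' (Subgroup.center R)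
    haveI hn : ((⁅(⊤ : Subgroup R), ⊤⁆ : Subgroup R).map f).Normal :=
      Subgroup.Normal.map inferInstance f (QuotientGroup.mk'_surjective _)
    have hbot : (⁅(⊤ : Subgroup R), ⊤⁆ : Subgroup R).map f = ⊥ := by
      by_contra hne
      haveI : Group.IsNilpotent (R ⧸ Subgroup.center R) :=
        Group.nilpotent_of_surjective f (QuotientGroup.mk'_surjective _)
      obtain ⟨z, hz, hz1⟩ := (Subgroup.bot_or_exists_ne_one _).resolve_left
        (CfsgLib.PGroupBasic.inf_center_ne_bot _ hne)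
      obtain ⟨hzN, hzC⟩ := Subgroup.mem_inf.1 hz
      obtain ⟨w, hw, rfl⟩ := hzN
      refine hz1 ((QuotientGroup.eq_one_iff w).2 (Subgroup.mem_center_iff.2 fun g => Subtype.ext ?_))
      have hwD : (w : G) ∈ D := by
        have h1 := Subgroup.mem_map_of_mem R.subtype hw
        rwa [Subgroup.map_commutator, ← MonoidHom.range_eq_map, Subgroup.range_subtype] at h1
      refine hT w hwD (fun g hg => ?_) g g.2
      have h2 : f (⟨g, hg⟩ * w * (⟨g, hg⟩ : R)⁻¹ * w⁻¹) = 1 := by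
        rw [map_mul, map_mul, map_mul, map_inv, map_inv, Subgroup.mem_center_iff.1 hzC (f ⟨g, hg⟩)]
        group
      exact fun y hy => congrArg Subtype.val
        (Subgroup.mem_center_iff.1 ((QuotientGroup.eq_one_iff _).1 h2) ⟨y, hy⟩)
    have hvD : v ∈ (⁅(⊤ : Subgroup R), ⊤⁆ : Subgroup R).map R.subtype := by
      rwa [Subgroup.map_commutator, ← MonoidHom.range_eq_map, Subgroup.range_subtype]
    obtain ⟨w, hw, rfl⟩ := hvD
    have h3 : f w = 1 := by
      have := Subgroup.mem_map_of_mem f hw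
      rwa [hbot, Subgroup.mem_bot] at this
    exact fun y hy => congrArg Subtype.val
      (Subgroup.mem_center_iff.1 ((QuotientGroup.eq_one_iff _).1 h3) ⟨y, hy⟩)
  have hder : ∀ x ∈ R, ∀ y ∈ R, ⁅x, y⁆ ∈ Subgroup.centralizer (H : Set G) := fun x hx y hy => by
    have hD := Subgroup.commutator_mem_commutator hx hy
    exact hcent _ (hDZ hD) (hZc _ (hDR hD) (hDZ hD))
  refine ⟨hder, fun x hx hxc => ?_⟩
  have hle : H ≤ Subgroup.centralizer ({x} : Set G) := le_of_members hH.closed fun b hb hbH => by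
    obtain ⟨k, hk, i, rfl⟩ := h.member_pow hH hc hcH hb hbH
    refine zpow_mem (Subgroup.mem_centralizer_singleton_iff.2 ?_) i
    have hz := hder x hx k hk _ (mul_mem (mul_mem (qpart_le q H hk) hcH) (inv_mem (qpart_le q H hk)))
    rw [commutatorElement_def] at hz
    calc k * c * k⁻¹ * x = k * c * k⁻¹ * (x * k * x⁻¹ * k⁻¹) * (k * x * k⁻¹) := by group
      _ = x * k * x⁻¹ * k⁻¹ * (k * c * k⁻¹) * (k * x * k⁻¹) := by rw [hz]
      _ = x * k * (x⁻¹ * (c * x)) * k⁻¹ := by group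
      _ = x * (k * c * k⁻¹) := by rw [← hxc.eq]; group
  exact fun y hy => Subgroup.mem_centralizer_singleton_iff.1 (hle hy)

theorem Start.hyp : Hyp p q a := by
  have hcases : ∀ {T : Subgroup G}, OddSys a T → ∀ c, IsConj a c → c ∈ T →
      ∀ x ∈ qpart q T, Commute x c → x ∈ Subgroup.centralizer (T : Set G) := by
    intro T hT c hc hcT x hx hxc
    rcases h.fpf_or_mixed with hf | hm
    · rw [h.fpf_fixed hf hT hc hcT x hx hxc]; exact one_mem _
    · exact (h.special hm hT hc hcT).2 x hx hxc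
  refine ⟨h.hp, h.hq, h.hne, h.hord, h.gen, h.pair, fun T hT c hc hcT => ?_, ?_⟩
  · obtain ⟨hR, hN, hsup⟩ := h.qpart_struct hT hc hcT
    exact ⟨qpart q T, qpart_le q T, hR, hN, hsup, hcases hT c hc hcT⟩
  · rcases h.fpf_or_mixed with hf | hm
    · exact Or.inl fun T hT x hx c hc hcT hxc => h.fpf_fixed hf hT hc hcT x hx hxc
    · refine Or.inr fun T hT x hx y hy => ?_
      by_cases hne : ∃ c, IsConj a c ∧ c ∈ T
      · obtain ⟨c, hc, hcT⟩ := hne
        exact (h.special hm hT hc hcT).1 x hx y hy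
      · push Not at hne
        have hT0 : T = ⊥ := eq_bot_iff.2 (le_of_members hT.closed fun b hb hbT =>
          absurd hbT (hne b hb))
        intro z hz
        rw [hT0, SetLike.mem_coe, Subgroup.mem_bot] at hz
        simp [hz]

end CfsgLib.PairGen
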