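import Cfsg.Agent.PairGen.Main

/-!
# Groups satisfying the standing hypothesis have odd order

The hypothesis passes to subgroups generated by conjugates and to suitable quotients.
-/

set_option autoImplicit false
set_option linter.unusedSectionVars false
set_option linter.style.haveILetI false

namespace CfsgLib.PairGen

open scoped commutatorElement

universe u

variable {G : Type u} [Group G]

theorem Hyp.odd_p [Finite G] {p q : ℕ} {a : G} (h : Hyp p q a) : Odd p := by
  have h1 := h.pair a a (IsConj.refl a) (IsConj.refl a)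
  rwa [Set.pair_eq_singleton, ← Subgroup.zpowers_eq_closure, Nat.card_zpowers, h.hord] at h1

/-- An invariant set of elements of size prime to `r` has a fixed element. -/
theorem exists_conj_fixed_elem [Finite G] {r : ℕ} [Fact r.Prime] (P : Subgroup G)
    (hP : IsPGroup r P) (S : Set G) (hS : ∀ g ∈ P, ∀ x ∈ S, g * x * g⁻¹ ∈ S)
    (hcard : ¬ r ∣ S.ncard) : ∃ x ∈ S, ∀ g ∈ P, g * x * g⁻¹ = x := by
  letI : MulAction P S :=
    { smul := fun g x => ⟨_, hS g g.2 x x.2⟩
      one_smul := fun x => Subtype.ext (by show (1 : G) * x * (1 : G)⁻¹ = x; group)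
      mul_smul := fun g h x => Subtype.ext (by
        show ((g * h : P) : G) * x * ((g * h : P) : G)⁻¹ = g * ((h : G) * x * (h : G)⁻¹) * (g : G)⁻¹
        push_cast; group) }
  obtain ⟨x, hx⟩ := hP.nonempty_fixed_point_of_prime_not_dvd_card S
    (by rwa [Nat.card_coe_set_eq])
  exact ⟨x, x.2, fun g hg => congrArg Subtype.val (hx ⟨g, hg⟩)⟩

variable [Finite G] {p q : ℕ} {a : G} (h : Hyp p q a)

include h

theorem Hyp.subgroup {H : Subgroup G} (hH : mclos a H = H) {c : G} (hc : IsConj a c) (hcH : c ∈ H) :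
    Hyp p q (⟨c, hcH⟩ : H) := by
  have hconj : ∀ b : H, IsConj (⟨c, hcH⟩ : H) b → IsConj a (b : G) := fun b hb =>
    hc.trans (MonoidHom.map_isConj H.subtype hb)
  have hcard : ∀ L : Subgroup H, Nat.card (L.map H.subtype) = Nat.card L := fun L =>
    (Nat.card_congr (L.equivMapOfInjective H.subtype H.subtype_injective).toEquiv).symm
  have hsys : ∀ {L : Subgroup H}, OddSys (⟨c, hcH⟩ : H) L → OddSys a (L.map H.subtype) := by
    intro L hL
    refine ⟨le_antisymm (mclos_le a _) ?_, (hcard L).symm ▸ hL.odd⟩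
    rw [Subgroup.map_le_iff_le_comap]
    exact le_of_members hL.closed fun b hb hbL =>
      mem_mclos (hconj b hb) (Subgroup.mem_map_of_mem _ hbL)
  have hqpart : ∀ {L : Subgroup H} {x : H}, x ∈ qpart q L → (x : G) ∈ qpart q (L.map H.subtype) := by
    intro L x hx
    refine (Subgroup.closure_le ((qpart q (L.map H.subtype)).comap H.subtype)).2 ?_ hx
    rintro y ⟨hy, n, hn⟩
    exact Subgroup.subset_closure ⟨Subgroup.mem_map_of_mem _ hy, n, by
      rw [← hn]; exact Subgroup.orderOf_coe y⟩
  refine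
    { hp := h.hp
      hq := h.hq
      hne := h.hne
      hord := by rw [← Subgroup.orderOf_coe]; exact h.orderOf_eq hc
      gen := ?_
      pair := ?_
      loc := ?_
      dich := ?_ }
  · rw [eq_top_iff]
    rintro ⟨x, hx⟩ -
    suffices H ≤ (mclos (⟨c, hcH⟩ : H) ⊤).map H.subtype by
      obtain ⟨y, hy, e⟩ := this hx
      rwa [show (⟨x, hx⟩ : H) = y from Subtype.ext e.symm]
    refine le_of_members hH fun b hb hbH => ?_
    have hP := h.oddSys_pair hb hc
    obtain ⟨k, hk, y, hy, rfl⟩ := h.member hP hc (Subgroup.subset_closure (Or.inr rfl)) hb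
      (Subgroup.subset_closure (Or.inl rfl))
    have hkH : k ∈ H := (Subgroup.closure_le H).2 (by
      rintro z (rfl | rfl)
      · exact hbH
      · exact hcH) (qpart_le q _ hk)
    obtain ⟨i, rfl⟩ := hy
    refine ⟨(⟨k, hkH⟩ * ⟨c, hcH⟩ * ⟨k, hkH⟩⁻¹ : H) ^ i,
      Subgroup.zpow_mem _ (mem_mclos (isConj_iff.2 ⟨_, rfl⟩) (Subgroup.mem_top _)) i, ?_⟩
    rw [map_zpow]
    show (k * c * k⁻¹) ^ i = k * c ^ i * k⁻¹
    rw [conj_zpow]
  · intro b b' hb hb'
    rw [← hcard, MonoidHom.map_closure, Set.image_pair]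
    exact h.pair _ _ (hconj b hb) (hconj b' hb')
  · intro L hL d hd hdL
    obtain ⟨K, hKL, hK, hN, hsup, hfix⟩ :=
      h.loc _ (hsys hL) d (hconj d hd) (Subgroup.mem_map_of_mem _ hdL)
    have hKH : K ≤ H := hKL.trans (Subgroup.map_subtype_le L)
    refine ⟨K.subgroupOf H, ?_, hK.comap_of_injective _ H.subtype_injective, ?_, ?_, ?_⟩
    · intro x hx
      obtain ⟨y, hy, e⟩ := hKL (Subgroup.mem_subgroupOf.1 hx)
      rwa [← show y = x from Subtype.ext e]
    · intro x hx
      refine mem_normalizer_of_le ?_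
      rintro _ ⟨y, hy, rfl⟩
      exact (Subgroup.mem_normalizer_iff.1 (hN (Subgroup.mem_map_of_mem _ hx)) (y : G)).1
        (Subgroup.mem_subgroupOf.1 hy)
    · apply Subgroup.map_injective H.subtype_injective
      rw [Subgroup.map_sup, MonoidHom.map_zpowers, Subgroup.subgroupOf_map_subtype, inf_eq_left.2 hKH]
      exact hsup
    · intro x hx hxd y hy
      exact Subtype.ext (hfix x (Subgroup.mem_subgroupOf.1 hx) (hxd.map H.subtype) y
        (Subgroup.mem_map_of_mem _ hy))
  · rcases h.dich with hf | hs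
    · exact Or.inl fun L hL x hx d hd hdL hxd => Subtype.ext (hf _ (hsys hL) x (hqpart hx) d
        (hconj d hd) (Subgroup.mem_map_of_mem _ hdL) (hxd.map H.subtype))
    · exact Or.inr fun L hL x hx y hy z hz => Subtype.ext (by
        have := hs _ (hsys hL) x (hqpart hx) y (hqpart hy) z (Subgroup.mem_map_of_mem _ hz)
        simpa [commutatorElement_def] using this)

theorem Hyp.quotient (N : Subgroup G) [N.Normal] (haN : a ∉ N)
    (hlift : ∀ H : Subgroup G, mclos a H = H →
      Odd (Nat.card (H.map (QuotientGroup.mk' N))) → Odd (Nat.card H)) :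
    Hyp p q (QuotientGroup.mk' N a) := by
  haveI : Fact p.Prime := ⟨h.hp⟩
  haveI : Fact q.Prime := ⟨h.hq⟩
  set f := QuotientGroup.mk' N
  have hsurj : Function.Surjective f := QuotientGroup.mk'_surjective N
  have hlow : ∀ x : G ⧸ N, IsConj (f a) x → ∃ b, IsConj a b ∧ f b = x := by
    intro x hx
    obtain ⟨g, rfl⟩ := isConj_iff.1 hx
    obtain ⟨g, rfl⟩ := hsurj g
    exact ⟨_, isConj_iff.2 ⟨g, rfl⟩, by simp⟩
  have himage : ∀ {L : Subgroup (G ⧸ N)}, OddSys (f a) L →
      OddSys a (mclos a (L.comap f)) ∧ (mclos a (L.comap f)).map f = L := by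
    intro L hL
    have e : (mclos a (L.comap f)).map f = L := by
      refine le_antisymm (Subgroup.map_le_iff_le_comap.2 (mclos_le a _)) ?_
      refine le_of_members hL.closed fun x hx hxL => ?_
      obtain ⟨b, hb, rfl⟩ := hlow x hx
      exact Subgroup.mem_map_of_mem f (mem_mclos hb hxL)
    exact ⟨⟨mclos_mclos a _, hlift _ (mclos_mclos a _) (e.symm ▸ hL.odd)⟩, e⟩
  -- fixed points lift
  have hfix : ∀ {H : Subgroup G}, OddSys a H → ∀ {c : G}, IsConj a c → c ∈ H →
      ∀ x ∈ qpart q H, Commute (f x) (f c) → ∃ x' ∈ ecore q H, f x' = f x := by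
    intro H hH c hc hcH x hx hxc
    obtain ⟨hK, -, hE, hN'⟩ := h.qpart_spec hH hc hcH
    set S : Set G := (x * ·) '' (qpart q H ⊓ N : Subgroup G)
    have hS : S.ncard = Nat.card (qpart q H ⊓ N : Subgroup G) := by
      rw [Set.ncard_image_of_injective _ (mul_right_injective x), ← Nat.card_coe_set_eq]; rfl
    obtain ⟨_, ⟨n, hn, rfl⟩, hfx⟩ := exists_conj_fixed_elem (r := p) (Subgroup.zpowers c)
      (IsPGroup.of_card (n := 1) (by rw [Nat.card_zpowers, h.orderOf_eq hc, pow_one])) S
      (by
        rintro g hg _ ⟨n, hn, rfl⟩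
        have hgH : g ∈ H := Subgroup.zpowers_le.2 hcH hg
        refine ⟨x⁻¹ * g * x * g⁻¹ * (g * n * g⁻¹), mul_mem (Subgroup.mem_inf.2 ⟨?_, ?_⟩)
          (Subgroup.mem_inf.2 ⟨(Subgroup.mem_normalizer_iff.1 (hN' hgH) n).1 hn.1,
            Subgroup.Normal.conj_mem inferInstance n hn.2 g⟩), by group⟩
        · have := h.conj_comm_mem hH hc hcH (inv_mem hx) hgH
          simpa [mul_assoc] using this
        · have hxg : Commute (f x) (f g) := by
            obtain ⟨i, rfl⟩ := hg
            rw [map_zpow]; exact hxc.zpow_right i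
          rw [← QuotientGroup.eq_one_iff, ← QuotientGroup.mk'_apply]
          simp only [map_mul, map_inv]
          change (f x)⁻¹ * f g * f x * (f g)⁻¹ = 1
          rw [mul_assoc ((f x)⁻¹), ← hxg.eq]; group)
      (by
        obtain ⟨j, hj⟩ := IsPGroup.iff_card.1 (hK.to_le (inf_le_left : qpart q H ⊓ N ≤ _))
        rw [hS, hj]
        exact fun hd => h.hne ((Nat.prime_dvd_prime_iff_eq h.hp h.hq).1
          (h.hp.dvd_of_dvd_pow hd)).symm)
    refine ⟨x * n, hE _ (mul_mem hx hn.1)
      (mul_inv_eq_iff_eq_mul.1 (hfx c (Subgroup.mem_zpowers c))).symm, ?_⟩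
    rw [map_mul, show f n = 1 from (QuotientGroup.eq_one_iff n).2 hn.2, mul_one]
  have hcentral : ∀ {H : Subgroup G} {x : G}, x ∈ Subgroup.centralizer (H : Set G) →
      f x ∈ Subgroup.centralizer ((H.map f : Subgroup (G ⧸ N)) : Set (G ⧸ N)) := by
    intro H x hx y hy
    obtain ⟨z, hz, rfl⟩ := hy
    rw [← map_mul, ← map_mul, hx z hz]
  have hqpart : ∀ {L : Subgroup (G ⧸ N)}, OddSys (f a) L → ∀ x ∈ qpart q L,
      x ∈ (qpart q (mclos a (L.comap f))).map f := by
    intro L hL x hx
    obtain ⟨hH, e⟩ := himage hL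
    set H := mclos a (L.comap f)
    by_cases hne : ∃ c, IsConj a c ∧ c ∈ H
    · obtain ⟨c, hc, hcH⟩ := hne
      refine (Subgroup.closure_le _).2 ?_ hx
      rintro y ⟨hy, n, hn⟩
      rw [← e] at hy
      obtain ⟨z, hz, rfl⟩ := hy
      obtain ⟨k, hk, w, hw, rfl⟩ := h.decomp hH hc hcH hz
      have hw1 : f w = 1 := by
        have hN' := (h.qpart_spec hH hc hcH).2.2.2
        have hpow : f w ^ (q ^ n) ∈ (qpart q H).map f := by
          have h1 : f (k * w) ^ (q ^ n) = 1 := by rw [← hn]; exact pow_orderOf_eq_one _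
          have hset : ((k * w) ^ (q ^ n)) * ((w ^ (q ^ n))⁻¹) ∈ qpart q H := by
            let K' := (qpart q H).subgroupOf H
            haveI : K'.Normal := Subgroup.normal_subgroupOf_of_le_normalizer hN'
            have hwH : w ∈ H := Subgroup.zpowers_le.2 hcH hw
            have hkH := qpart_le q H hk
            have e1 : QuotientGroup.mk' K' (⟨k, hkH⟩ * ⟨w, hwH⟩) = QuotientGroup.mk' K' ⟨w, hwH⟩ := by
              rw [map_mul, show QuotientGroup.mk' K' ⟨k, hkH⟩ = 1 from
                (QuotientGroup.eq_one_iff _).2 (Subgroup.mem_subgroupOf.2 hk), one_mul]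
            have e2 : QuotientGroup.mk' K'
                ((⟨k, hkH⟩ * ⟨w, hwH⟩) ^ (q ^ n) * ((⟨w, hwH⟩ : H) ^ (q ^ n))⁻¹) = 1 := by
              rw [map_mul, map_inv, map_pow, map_pow, e1, mul_inv_cancel]
            simpa [K', Subgroup.mem_subgroupOf] using (QuotientGroup.eq_one_iff _).1 e2
          refine ⟨((k * w) ^ (q ^ n) * (w ^ (q ^ n))⁻¹)⁻¹, inv_mem hset, ?_⟩
          rw [map_inv, map_mul, map_pow, h1, one_mul, map_inv, inv_inv, map_pow]
        obtain ⟨k', hk', hk''⟩ := hpow
        obtain ⟨j', hj'⟩ := (h.qpart_spec hH hc hcH).1 ⟨k', hk'⟩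
        -- the image of `w` has `q`-power order
        rw [← orderOf_eq_one_iff]
        refine Nat.eq_one_of_dvd_coprimes (h.coprime_qpow (n + j')) ?_
          ((orderOf_map_dvd f w).trans ?_)
        · refine orderOf_dvd_of_pow_eq_one ?_
          rw [pow_add, pow_mul, ← hk'', ← map_pow,
            show k' ^ q ^ j' = 1 by simpa using congrArg Subtype.val hj', map_one]
        · have := Subgroup.orderOf_dvd_natCard _ hw
          rwa [Nat.card_zpowers, h.orderOf_eq hc] at this
      rw [map_mul, hw1, mul_one]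
      exact Subgroup.mem_map_of_mem f hk
    · push Not at hne
      have hH0 : H = ⊥ := eq_bot_iff.2 (le_of_members hH.closed fun b hb hbH =>
        absurd hbH (hne b hb))
      have hx' : x ∈ H.map f := e.symm ▸ qpart_le q L hx
      rw [hH0, Subgroup.map_bot, Subgroup.mem_bot] at hx'
      exact hx'.symm ▸ one_mem _
  refine
    { hp := h.hp
      hq := h.hq
      hne := h.hne
      hord := ?_
      gen := ?_
      pair := ?_
      loc := ?_
      dich := ?_ }
  · refine ((Nat.dvd_prime h.hp).1 (h.hord ▸ orderOf_map_dvd f a)).resolve_left fun h1 => haN ?_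
    exact (QuotientGroup.eq_one_iff a).1 (orderOf_eq_one_iff.1 h1)
  · rw [eq_top_iff, ← Subgroup.map_top_of_surjective f hsurj, Subgroup.map_le_iff_le_comap]
    exact le_of_members h.gen fun b hb _ => mem_mclos (MonoidHom.map_isConj f hb) ⟨b, Subgroup.mem_top _, rfl⟩
  · intro x y hx hy
    obtain ⟨b, hb, rfl⟩ := hlow x hx
    obtain ⟨b', hb', rfl⟩ := hlow y hy
    rw [← Set.image_pair, ← MonoidHom.map_closure]
    exact (h.pair b b' hb hb').of_dvd_nat (Subgroup.card_map_dvd _ f)
  · intro L hL x hx hxL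
    obtain ⟨c, hc, rfl⟩ := hlow x hx
    obtain ⟨hH, e⟩ := himage hL
    set H := mclos a (L.comap f)
    have hcH : c ∈ H := mem_mclos hc hxL
    obtain ⟨hK, hsup, -, hN'⟩ := h.qpart_spec hH hc hcH
    refine ⟨(qpart q H).map f, e ▸ Subgroup.map_mono (qpart_le q H), hK.map f, ?_, ?_, ?_⟩
    · rw [← e]
      exact (Subgroup.map_mono hN').trans (Subgroup.le_normalizer_map f)
    · conv_lhs => rw [← e, hsup, Subgroup.map_sup, MonoidHom.map_zpowers]
    · rintro _ ⟨y, hy, rfl⟩ hyc
      obtain ⟨y', hy', e'⟩ := hfix hH hc hcH y hy hyc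
      rw [← e', ← e]
      exact hcentral hy'.2
  · rcases h.dich with hf | hs
    · left
      intro L hL x hx d hd hdL hxd
      obtain ⟨c, hc, rfl⟩ := hlow d hd
      obtain ⟨y, hy, rfl⟩ := hqpart hL x hx
      obtain ⟨hH, -⟩ := himage hL
      have hcH : c ∈ mclos a (L.comap f) := mem_mclos hc hdL
      obtain ⟨y', hy', e'⟩ := hfix hH hc hcH y hy hxd
      rw [← e', hf _ hH y' hy'.1 c hc hcH (h.ecore_commute hcH hy'), map_one]
    · right
      intro L hL x hx x' hx'
      obtain ⟨y, hy, rfl⟩ := hqpart hL x hx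
      obtain ⟨y', hy', rfl⟩ := hqpart hL x' hx'
      obtain ⟨hH, e⟩ := himage hL
      rw [← map_commutatorElement, ← e]
      exact hcentral (hs _ hH y hy y' hy')

omit h

theorem odd_of_card : ∀ (n : ℕ) (G : Type u) [Group G] [Finite G] (p q : ℕ) (a : G),
    Nat.card G = n → Hyp p q a → Odd n := by
  intro n
  induction n using Nat.strong_induction_on with
  | _ n ih =>
  intro G _ _ p q a hcard h
  by_contra hodd
  rw [← hcard] at hodd
  have hproper : ∀ H : Subgroup G, mclos a H = H → H ≠ ⊤ → Odd (Nat.card H) := by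
    intro H hH hne
    by_cases hex : ∃ c, IsConj a c ∧ c ∈ H
    · obtain ⟨c, hc, hcH⟩ := hex
      refine ih _ ?_ H p q ⟨c, hcH⟩ rfl (h.subgroup hH hc hcH)
      rw [← hcard]
      exact lt_of_le_of_ne (Subgroup.card_le_card_group H) fun he => hne (Subgroup.eq_top_of_card_eq H he)
    · push Not at hex
      rw [show H = ⊥ from eq_bot_iff.2 (le_of_members hH fun b hb hbH => absurd hbH (hex b hb)),
        Subgroup.card_bot]
      exact odd_one
  -- a normal subgroup modulo which oddness lifts gives oddness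
  have hred : ∀ (N : Subgroup G) [N.Normal], N ≠ ⊥ → a ∉ N → (∀ H : Subgroup G, mclos a H = H →
      Odd (Nat.card (H.map (QuotientGroup.mk' N))) → Odd (Nat.card H)) → False := by
    intro N hN hne haN hlift
    refine hodd ?_
    have h1 := hlift ⊤ h.gen (by
      rw [Subgroup.map_top_of_surjective _ (QuotientGroup.mk'_surjective N), Subgroup.card_top]
      refine ih _ ?_ (G ⧸ N) p q _ rfl (h.quotient N haN hlift)
      rw [← hcard, Subgroup.card_eq_card_quotient_mul_card_subgroup N]
      exact lt_mul_of_one_lt_right Nat.card_pos ((Subgroup.one_lt_card_iff_ne_bot N).2 hne))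
    rwa [Subgroup.card_top] at h1
  have hker : ∀ (N : Subgroup G) [N.Normal] (H : Subgroup G),
      Nat.card H = Nat.card (H.map (QuotientGroup.mk' N)) * Nat.card (N.subgroupOf H) := by
    intro N _ H
    have h1 := Subgroup.card_eq_card_quotient_mul_card_subgroup
      ((QuotientGroup.mk' N).comp H.subtype).ker
    rw [Nat.card_congr (QuotientGroup.quotientKerEquivRange _).toEquiv, MonoidHom.range_comp,
      Subgroup.range_subtype, ← MonoidHom.comap_ker, QuotientGroup.ker_mk'] at h1
    exact h1
  refine hodd (Min.odd (p := p) (q := q) (a := a) ⟨h, hproper, ?_, ?_⟩)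
  · intro N hN hNodd
    by_contra hne
    haveI := hN
    refine hred N hne (fun haN => hodd ?_) fun H _ hH => ?_
    · rw [← Subgroup.card_top (G := G)]
      refine hNodd.of_dvd_nat (Subgroup.card_dvd_of_le ?_)
      rw [← h.gen]
      refine (Subgroup.closure_le _).2 fun b hb => ?_
      obtain ⟨g, rfl⟩ := isConj_iff.1 hb.1
      exact hN.conj_mem a haN g
    · rw [hker N H]
      exact hH.mul (hNodd.of_dvd_nat (Subgroup.card_comap_dvd_of_injective N _ H.subtype_injective))
  · intro t ht htc
    haveI hN : (Subgroup.zpowers t).Normal := ⟨fun x hx g => by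
      have hx' : x ∈ Subgroup.center G := Subgroup.zpowers_le.2 htc hx
      rwa [Subgroup.mem_center_iff.1 hx' g, mul_inv_cancel_right]⟩
    have ht1 : t ≠ 1 := fun h1 => by rw [h1, orderOf_one] at ht; omega
    refine hred (Subgroup.zpowers t) (by simpa using ht1) (fun haN => ?_) fun H hHc hH => ?_
    · have := Subgroup.orderOf_dvd_natCard _ haN
      rw [Nat.card_zpowers, ht, h.hord, Nat.prime_dvd_prime_iff_eq h.hp Nat.prime_two] at this
      exact absurd h.odd_p (by rw [this]; decide)
    · rw [hker (Subgroup.zpowers t) H]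
      rcases (Nat.dvd_prime Nat.prime_two).1 ((Subgroup.card_comap_dvd_of_injective
          (Subgroup.zpowers t) _ H.subtype_injective).trans (by rw [Nat.card_zpowers, ht])) with h1 | h2
      · rw [show (Subgroup.zpowers t).subgroupOf H = (Subgroup.zpowers t).comap H.subtype from rfl,
          h1, mul_one]
        exact hH
      · exfalso
        set T := (Subgroup.zpowers t).subgroupOf H
        have hT : Nat.card T = 2 := h2
        have hidx : T.index = Nat.card (H.map (QuotientGroup.mk' (Subgroup.zpowers t))) := by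
          have := T.card_mul_index
          rw [hker (Subgroup.zpowers t) H, mul_comm _ (Nat.card T)] at this
          exact Nat.eq_of_mul_eq_mul_left Nat.card_pos this
        obtain ⟨L, hL⟩ := Subgroup.exists_right_complement'_of_coprime (N := T)
          (by rw [hT, hidx]; exact Nat.coprime_two_left.2 hH)
        have hLidx : L.index = 2 := by rw [hL.index_eq_card, hT]
        haveI : L.Normal := Subgroup.normal_of_index_eq_two hLidx
        have hle : H ≤ L.map H.subtype := le_of_members hHc fun b hb hbH => by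
          refine ⟨⟨b, hbH⟩, ?_, rfl⟩
          rw [SetLike.mem_coe, ← QuotientGroup.eq_one_iff, ← orderOf_eq_one_iff]
          refine Nat.eq_one_of_dvd_coprimes (Nat.coprime_two_left.2 h.odd_p)
            (?_ : _ ∣ 2) ((orderOf_map_dvd (QuotientGroup.mk' L) _).trans ?_)
          · rw [← hLidx]; exact orderOf_dvd_natCard _
          · rw [← Subgroup.orderOf_coe]; exact (h.orderOf_eq hb).dvd
        have h3 := Subgroup.card_dvd_of_le hle
        rw [Subgroup.card_map_of_injective H.subtype_injective] at h3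
        have h4 := L.card_mul_index
        rw [hLidx] at h4
        have h5 := Nat.le_of_dvd Nat.card_pos h3
        have h6 : 0 < Nat.card L := Nat.card_pos
        omega

/-- A group satisfying the standing hypothesis has odd order. -/
theorem Hyp.oddCard {G : Type u} [Group G] [Finite G] {p q : ℕ} {a : G} (h : Hyp p q a) :
    Odd (Nat.card G) :=
  odd_of_card _ G p q a rfl h

end CfsgLib.PairGen
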