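import Cfsg.Agent.PairGen.Basic

/-!
# An involution acting on a group of odd order
-/

set_option autoImplicit false
set_option linter.unusedSectionVars false
set_option linter.style.haveILetI false

namespace CfsgLib.PairGen

open scoped commutatorElement

variable {G : Type*} [Group G] [Finite G]

theorem inv_eq_self_of_orderOf_two {t : G} (ht : orderOf t = 2) : t⁻¹ = t :=
  inv_eq_of_mul_eq_one_right (by rw [← sq, ← ht, pow_orderOf_eq_one])

/-- An inverted element of odd order has an inverted square root. -/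
theorem exists_sqrt {t w : G} (hw : Odd (orderOf w)) (h : t * w * t⁻¹ = w⁻¹) :
    ∃ r ∈ Subgroup.zpowers w, r * r = w ∧ t * r * t⁻¹ = r⁻¹ := by
  obtain ⟨m, hm⟩ := hw
  refine ⟨w ^ (m + 1), Subgroup.pow_mem _ (Subgroup.mem_zpowers w) _, ?_, ?_⟩
  · rw [← pow_add, show m + 1 + (m + 1) = orderOf w + 1 by omega, pow_succ, pow_orderOf_eq_one,
      one_mul]
  · rw [← conj_pow, h, inv_pow]

/-- An element of a group of odd order normalized by an involution splits. -/
theorem exists_split {t : G} (ht : orderOf t = 2) {K : Subgroup G}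
    (hK : Odd (Nat.card K)) (htK : t ∈ Subgroup.normalizer (K : Set G)) {k : G} (hk : k ∈ K) :
    ∃ f ∈ K, ∃ r ∈ K, Commute t f ∧ t * r * t⁻¹ = r⁻¹ ∧ k = f * r⁻¹ := by
  have hti := inv_eq_self_of_orderOf_two ht
  have htt : t * t = 1 := by rw [← sq, ← ht, pow_orderOf_eq_one]
  set w := k⁻¹ * (t * k * t⁻¹) with hwdef
  have hwK : w ∈ K := mul_mem (inv_mem hk) ((Subgroup.mem_normalizer_iff.1 htK k).1 hk)
  have hinv : t * w * t⁻¹ = w⁻¹ := by
    calc t * w * t⁻¹ = t * k⁻¹ * t * k * (t⁻¹ * t⁻¹) := by rw [hwdef]; group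
      _ = t * k⁻¹ * t * k := by rw [hti, htt, mul_one]
      _ = (t * k * t⁻¹)⁻¹ * k := by rw [hti]; simp [mul_assoc, hti]
      _ = w⁻¹ := by rw [hwdef]; group
  obtain ⟨r, hr, hrr, htr⟩ := exists_sqrt (hK.of_dvd_nat (Subgroup.orderOf_dvd_natCard K hwK)) hinv
  have hrK : r ∈ K := Subgroup.zpowers_le.2 hwK hr
  refine ⟨k * r, mul_mem hk hrK, r, hrK, ?_, htr, by group⟩
  refine mul_inv_eq_iff_eq_mul.1 ?_
  calc t * (k * r) * t⁻¹ = (t * k * t⁻¹) * (t * r * t⁻¹) := by group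
    _ = k * (w * r⁻¹) := by rw [htr, hwdef]; group
    _ = k * r := by rw [← hrr, mul_inv_cancel_right]

/-- An element of the coset `F t` is conjugate under `F` to `t y` with `y` centralizing `t`. -/
theorem exists_conj_coset {t : G} (ht : orderOf t = 2) {F : Subgroup G}
    (hF : Odd (Nat.card F)) (htF : t ∈ Subgroup.normalizer (F : Set G)) {x : G} (hx : x ∈ F) :
    ∃ f ∈ F, ∃ y ∈ F, Commute t y ∧ x * t = f * (t * y) * f⁻¹ := by
  have hti := inv_eq_self_of_orderOf_two ht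
  set g := x * t with hg
  have hgg : g * g ∈ F := by
    rw [show g * g = x * (t * x * t) by rw [hg]; group]
    exact mul_mem hx (by
      have := (Subgroup.mem_normalizer_iff.1 htF x).1 hx
      rwa [hti] at this)
  obtain ⟨m, hm⟩ := hF.of_dvd_nat (Subgroup.orderOf_dvd_natCard F hgg)
  set n := orderOf (g * g)
  set u := (g * g) ^ m * x with hu
  have huF : u ∈ F := mul_mem (pow_mem hgg m) hx
  have hun : u * t = g ^ n := by
    rw [hu, mul_assoc, ← hg, hm, pow_succ, ← sq, ← pow_mul]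
  have h1 : u * t * (u * t) = 1 := by
    rw [hun, ← pow_add, show n + n = 2 * n by ring, pow_mul, sq]
    exact pow_orderOf_eq_one _
  have hinv : t * u * t⁻¹ = u⁻¹ := by
    rw [hti]
    exact eq_inv_of_mul_eq_one_right (by rw [← h1]; group)
  obtain ⟨r, hr, hrr, htr⟩ := exists_sqrt (hF.of_dvd_nat (Subgroup.orderOf_dvd_natCard F huF)) hinv
  have hrF : r ∈ F := Subgroup.zpowers_le.2 huF hr
  have hutr : u * t = r * t * r⁻¹ := by
    have h2 : t * r⁻¹ = r * t := by
      have htt : t * t = 1 := by rw [← sq, ← ht, pow_orderOf_eq_one]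
      rw [← htr, ← mul_assoc, ← mul_assoc, htt, one_mul, hti]
    rw [← hrr, mul_assoc, mul_assoc r t, h2]
  set y0 := ((g * g) ^ m)⁻¹ with hy0
  have hg2 : g = u * t * y0 := by
    rw [hun, hy0, hm, pow_succ, ← sq, ← pow_mul, ← pow_succ, pow_succ']
    rw [mul_inv_cancel_right]
  have hcomm : Commute (u * t) y0 := by
    rw [hun, hy0]
    exact (((Commute.refl g).mul_right (Commute.refl g)).pow_pow n m).inv_right
  refine ⟨r, hrF, r⁻¹ * y0 * r, mul_mem (mul_mem (inv_mem hrF) (inv_mem (pow_mem hgg m))) hrF,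
    ?_, ?_⟩
  · rw [hutr] at hcomm
    show t * (r⁻¹ * y0 * r) = r⁻¹ * y0 * r * t
    calc t * (r⁻¹ * y0 * r) = r⁻¹ * ((r * t * r⁻¹) * y0) * r := by group
      _ = r⁻¹ * (y0 * (r * t * r⁻¹)) * r := by rw [hcomm.eq]
      _ = r⁻¹ * y0 * r * t := by group
  · rw [hg2, hutr]; group

variable {p q : ℕ} {a c : G} {H : Subgroup G} (h : Hyp p q a)

/-- The subgroups of the conjugates of `a` lying in `H`. -/
def memSet (a : G) (H : Subgroup G) : Set (Subgroup G) :=
  {P | ∃ b, IsConj a b ∧ b ∈ H ∧ P = Subgroup.zpowers b}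

theorem memSet_map {g : G} {P : Subgroup G} (hg : g ∈ Subgroup.normalizer (H : Set G))
    (hP : P ∈ memSet a H) : P.map (MulAut.conj g).toMonoidHom ∈ memSet a H := by
  obtain ⟨b, hb, hbH, rfl⟩ := hP
  exact ⟨_, isConj_conj hb g, (Subgroup.mem_normalizer_iff.1 hg b).1 hbH, zpowers_map_conj g b⟩

include h

theorem Hyp.odd_qpart (hH : OddSys a H) : Odd (Nat.card (qpart q H)) :=
  hH.odd.of_dvd_nat (Subgroup.card_dvd_of_le (qpart_le q H))

theorem Hyp.zpowers_eq (hc : IsConj a c) {y : G} (hy : y ∈ Subgroup.zpowers c) (hy1 : y ≠ 1) :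
    Subgroup.zpowers y = Subgroup.zpowers c := by
  haveI : Fact p.Prime := ⟨h.hp⟩
  refine Subgroup.eq_of_le_of_card_ge (Subgroup.zpowers_le.2 hy) ?_
  rw [Nat.card_zpowers, Nat.card_zpowers, h.orderOf_eq hc]
  exact Nat.le_of_eq (((Nat.dvd_prime h.hp).1 ((Subgroup.orderOf_dvd_natCard _ hy).trans
    (by rw [Nat.card_zpowers, h.orderOf_eq hc]))).resolve_left
    (mt orderOf_eq_one_iff.1 hy1)).symm

theorem Hyp.memSet_eq (hH : OddSys a H) (hc : IsConj a c) (hcH : c ∈ H) :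
    memSet a H = {P | ∃ k ∈ qpart q H, P = (Subgroup.zpowers c).map (MulAut.conj k).toMonoidHom} := by
  ext P
  constructor
  · rintro ⟨b, hb, hbH, rfl⟩
    obtain ⟨k, hk, y, hy, rfl⟩ := h.member hH hc hcH hb hbH
    refine ⟨k, hk, ?_⟩
    rw [← zpowers_map_conj, h.zpowers_eq hc hy ?_]
    intro h1
    exact h.ne_one hb (by rw [h1, mul_one, mul_inv_cancel])
  · rintro ⟨k, hk, rfl⟩
    exact ⟨_, isConj_conj hc k,
      mul_mem (mul_mem (qpart_le q H hk) hcH) (inv_mem (qpart_le q H hk)), zpowers_map_conj k c⟩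

theorem Hyp.ncard_memSet (hH : OddSys a H) (hc : IsConj a c) (hcH : c ∈ H) :
    ∃ n, (memSet a H).ncard = q ^ n ∧ Odd (q ^ n) := by
  haveI : Fact q.Prime := ⟨h.hq⟩
  have hK := (h.qpart_spec hH hc hcH).1
  rw [h.memSet_eq hH hc hcH]
  rcases h.hq.eq_two_or_odd' with h2 | h2
  · have h1 : qpart q H = ⊥ := by
      obtain ⟨k, hk⟩ := IsPGroup.iff_card.1 hK
      rw [← Subgroup.card_eq_one, hk]
      rcases k with _ | k
      · rfl
      · exact absurd (h.odd_qpart hH) (by rw [hk, h2, Nat.not_odd_iff_even]; simp [parity_simps])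
    refine ⟨0, ?_, by simp⟩
    rw [pow_zero, Set.ncard_eq_one]
    refine ⟨Subgroup.zpowers c, Set.ext fun P => ?_⟩
    simp [h1, map_conj_one]
  · obtain ⟨n, hn⟩ := ncard_conj_orbit (qpart q H) hK (Subgroup.zpowers c)
    exact ⟨n, hn, h2.pow⟩

/-- A `2`-group normalizing an odd system normalizes the group of one of its conjugates. -/
theorem Hyp.exists_fixed (hH : OddSys a H) (hc : IsConj a c) (hcH : c ∈ H) (P : Subgroup G)
    (hP : IsPGroup 2 P) (hPH : P ≤ Subgroup.normalizer (H : Set G)) :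
    ∃ b, IsConj a b ∧ b ∈ H ∧ ∀ g ∈ P, g * b * g⁻¹ ∈ Subgroup.zpowers b := by
  haveI : Fact (Nat.Prime 2) := ⟨Nat.prime_two⟩
  obtain ⟨n, hn, hodd⟩ := h.ncard_memSet hH hc hcH
  obtain ⟨_, ⟨b, hb, hbH, rfl⟩, hfix⟩ := exists_conj_fixed P hP (memSet a H)
    (fun g hg _ hQ => memSet_map (hPH hg) hQ)
    (by rw [hn]; exact fun hd => (Nat.not_even_iff_odd.2 hodd) (even_iff_two_dvd.2 hd))
  refine ⟨b, hb, hbH, fun g hg => ?_⟩
  have := hfix g hg
  rw [zpowers_map_conj] at this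
  rw [← this]
  exact Subgroup.mem_zpowers _

theorem Hyp.pair_normalizer {t b : G} (hb : IsConj a b) (ht : orderOf t = 2) :
    OddSys a (Subgroup.closure ({b, t * b * t⁻¹} : Set G)) ∧
      t ∈ Subgroup.normalizer (Subgroup.closure ({b, t * b * t⁻¹} : Set G) : Set G) := by
  refine ⟨h.oddSys_pair hb (isConj_conj hb t), ?_⟩
  rw [← map_conj_eq_iff, MonoidHom.map_closure, Set.image_pair, MulEquiv.coe_toMonoidHom,
    MulAut.conj_apply, MulAut.conj_apply, Set.pair_comm]
  congr 2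
  have htt : t * t = 1 := by rw [← sq, ← ht, pow_orderOf_eq_one]
  calc t * (t * b * t⁻¹) * t⁻¹ = (t * t) * b * (t * t)⁻¹ := by group
    _ = b := by rw [htt]; group

/-- An involution centralizing a conjugate of `a` and moving `b` centralizes a conjugate in the
pair of `b`. -/
theorem Hyp.exists_center {t b : G} (ht : orderOf t = 2) (hc : IsConj a c) (htc : Commute t c)
    (hb : IsConj a b) :
    ∃ m, IsConj a m ∧ Commute t m ∧ m ∈ Subgroup.closure ({b, t * b * t⁻¹} : Set G) := by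
  obtain ⟨hF, hN⟩ := h.pair_normalizer hb ht
  obtain ⟨m, hm, hmF, hfix⟩ := h.exists_fixed hF hb (Subgroup.subset_closure (Or.inl rfl))
    (Subgroup.zpowers t) (IsPGroup.of_card (n := 1) (by rw [Nat.card_zpowers, ht, pow_one]))
    (Subgroup.zpowers_le.2 hN)
  exact ⟨m, hm, h.norm_cent hm hc htc (hfix t (Subgroup.mem_zpowers t)), hmF⟩

end CfsgLib.PairGen
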