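import Cfsg.Agent.PairGen.Reflect
import Cfsg.Agent.BlocksB.PrincipalColumns
import Cfsg.Agent.ZStar.Final
import Cfsg.Agent.Blocks.Congr

/-!
# There is no minimal counterexample

An involution centralizing exactly one conjugate is isolated. Otherwise `χ (b * t) = χ t` for the
principal `2`-block characters `χ` and all conjugates `b` of `a`, which forces `a` into all their
kernels.
-/

set_option autoImplicit false
set_option linter.unusedSectionVars false
set_option linter.style.haveILetI false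

namespace CfsgLib.PairGen

open scoped commutatorElement
open Cfsg

universe u

variable {G : Type u} [Group G] [Finite G] {p q : ℕ} {a c : G}

theorem orderOf_conj' (g t : G) : orderOf (g * t * g⁻¹) = orderOf t := by
  simpa using orderOf_injective (MulAut.conj g).toMonoidHom (MulAut.conj g).injective t

theorem le_centralizerPPrimeCore {t : G} {N : Subgroup G}
    (hN : N ≤ Subgroup.centralizer ({t} : Set G)) (hodd : Odd (Nat.card N))
    (hn : ∀ n : G, Commute n t → n ∈ Subgroup.normalizer (N : Set G)) :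
    N ≤ centralizerPPrimeCore 2 t := by
  intro x hx
  refine Subgroup.mem_map.2 ⟨⟨x, hN hx⟩, CfsgLib.Solvable.le_pPrimeCore
    (N := N.subgroupOf (Subgroup.centralizer ({t} : Set G))) 2 ?_ ?_ hx, rfl⟩
  · exact Subgroup.normal_subgroupOf_of_le_normalizer fun n hn' =>
      hn n (Subgroup.mem_centralizer_singleton_iff.1 hn')
  · rw [Nat.card_congr (Subgroup.subgroupOfEquivOfLe hN).toEquiv]
    exact hodd.coprime_two_right

theorem isBlock_map {X : Subgroup G} (n : G) (hX : IsBlock q a X) :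
    IsBlock q a (X.map (MulAut.conj n).toMonoidHom) := by
  obtain ⟨⟨hcl, hodd⟩, e, he, he1, heq⟩ := hX
  refine ⟨⟨by rw [← mclos_map, hcl], ?_⟩, n * e * n⁻¹, ecore_conj he, by simpa using he1, ?_⟩
  · rwa [Nat.card_congr ((X.equivMapOfInjective (MulAut.conj n).toMonoidHom
      (MulAut.conj n).injective).toEquiv).symm]
  · rw [heq, blk, blk, mclos_map]
    congr 1
    ext x
    rw [mem_map_conj, Subgroup.mem_centralizer_singleton_iff,
      Subgroup.mem_centralizer_singleton_iff]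
    constructor
    · intro h
      calc x * (n * e * n⁻¹) = n * ((n⁻¹ * x * n) * e) * n⁻¹ := by group
        _ = n * (e * (n⁻¹ * x * n)) * n⁻¹ := by rw [h]
        _ = n * e * n⁻¹ * x := by group
    · intro h
      calc n⁻¹ * x * n * e = n⁻¹ * (x * (n * e * n⁻¹)) * n := by group
        _ = n⁻¹ * (n * e * n⁻¹ * x) * n := by rw [h]
        _ = e * (n⁻¹ * x * n) := by group

variable (m : Min p q a)

include m

theorem Min.false_of_isolated {t : G} (ht : IsIsolatedInvolution t) : False := by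
  obtain ⟨N, hN, hodd, hc⟩ := CfsgLib.ZStar.zstar ht
  refine m.noCentral t ht.1 (Subgroup.mem_center_iff.2 fun g => ?_)
  have h1 := hc g
  rw [m.noCore N hN hodd, Subgroup.mem_bot] at h1
  exact (mul_inv_eq_iff_eq_mul.1 (mul_inv_eq_one.1 h1)).symm

theorem Min.eq_one_of_commute {x : G} (hx : ∀ b, IsConj a b → Commute x b) : x = 1 := by
  refine m.center_eq (Subgroup.mem_center_iff.2 fun g => ?_)
  have : (⊤ : Subgroup G) ≤ Subgroup.centralizer ({x} : Set G) := by
    rw [← m.gen]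
    exact (Subgroup.closure_le _).2 fun b hb =>
      Subgroup.mem_centralizer_singleton_iff.2 (hx b hb.1).symm.eq
  exact Subgroup.mem_centralizer_singleton_iff.1 (this (Subgroup.mem_top g))

/-- Commuting involutions normalize a common conjugate. -/
theorem Min.common {t s : G} (ht : orderOf t = 2) (hs : orderOf s = 2) (hts : Commute t s) :
    ∃ b, IsConj a b ∧ t * b * t⁻¹ ∈ Subgroup.zpowers b ∧ s * b * s⁻¹ ∈ Subgroup.zpowers b := by
  have h := m.toHyp
  have h2 : ∀ {x : G}, orderOf x = 2 → IsPGroup 2 (Subgroup.zpowers x) := fun hx =>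
    IsPGroup.of_card (n := 1) (by rw [Nat.card_zpowers, hx, pow_one])
  obtain ⟨hF, hN⟩ := h.pair_normalizer (IsConj.refl a) ht
  obtain ⟨b₀, hb₀, -, hfix⟩ := h.exists_fixed hF (IsConj.refl a)
    (Subgroup.subset_closure (Or.inl rfl)) _ (h2 ht) (Subgroup.zpowers_le.2 hN)
  have htb := hfix t (Subgroup.mem_zpowers t)
  obtain ⟨hF', hN'⟩ := h.pair_normalizer hb₀ hs
  have hm1 : b₀ ∈ Subgroup.closure ({b₀, s * b₀ * s⁻¹} : Set G) :=
    Subgroup.subset_closure (Or.inl rfl)
  have hm2 : s * b₀ * s⁻¹ ∈ Subgroup.closure ({b₀, s * b₀ * s⁻¹} : Set G) :=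
    Subgroup.subset_closure (Or.inr rfl)
  have htN : t ∈ Subgroup.normalizer
      (Subgroup.closure ({b₀, s * b₀ * s⁻¹} : Set G) : Set G) := by
    refine mem_normalizer_of_le ?_
    rw [MonoidHom.map_closure, Subgroup.closure_le]
    rintro _ ⟨x, (rfl | rfl), rfl⟩
    · have := Subgroup.zpowers_le.2 hm1 htb
      simpa using this
    · have h1 : t * (s * b₀ * s⁻¹) * t⁻¹ ∈ Subgroup.zpowers (s * b₀ * s⁻¹) := by
        rw [← zpowers_map_conj, show t * (s * b₀ * s⁻¹) * t⁻¹ = (t * s) * b₀ * (t * s)⁻¹ by group,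
          hts.eq, show s * t * b₀ * (s * t)⁻¹ = s * (t * b₀ * t⁻¹) * s⁻¹ by group]
        exact conj_mem_map_conj htb
      simpa using Subgroup.zpowers_le.2 hm2 h1
  obtain ⟨b, hb, -, hfix'⟩ := h.exists_fixed hF' hb₀ (Subgroup.subset_closure (Or.inl rfl))
    (Subgroup.zpowers t ⊔ Subgroup.zpowers s)
    ((h2 ht).to_sup_of_normal_left' (h2 hs) (Subgroup.zpowers_le.2
      (Subgroup.centralizer_le_normalizer _ (Subgroup.mem_centralizer_iff.2 (by
        rintro x ⟨i, rfl⟩
        exact (hts.zpow_left i).eq)))))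
    (sup_le (Subgroup.zpowers_le.2 htN) (Subgroup.zpowers_le.2 hN'))
  exact ⟨b, hb, hfix' t (Subgroup.mem_sup_left (Subgroup.mem_zpowers t)),
    hfix' s (Subgroup.mem_sup_right (Subgroup.mem_zpowers s))⟩

/-- An involution normalizing a conjugate centralizes or inverts it. -/
theorem Min.inverts {t b : G} (ht : orderOf t = 2) (hb : IsConj a b)
    (htb : t * b * t⁻¹ ∈ Subgroup.zpowers b) (hne : ¬ Commute t b) : t * b * t⁻¹ = b⁻¹ := by
  by_contra hinv
  obtain ⟨i, hi⟩ := htb
  have hxb : Commute (t * b * t⁻¹) b := hi ▸ (Commute.refl b).zpow_left i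
  have hfix : t * (t * b * t⁻¹ * b) * t⁻¹ = t * b * t⁻¹ * b := by
    have htt : t * t = 1 := by rw [← sq, ← ht, pow_orderOf_eq_one]
    calc t * (t * b * t⁻¹ * b) * t⁻¹ = (t * t) * b * (t * t)⁻¹ * (t * b * t⁻¹) := by group
      _ = b * (t * b * t⁻¹) := by rw [htt]; group
      _ = _ := hxb.eq.symm
  have hmem : t * b * t⁻¹ * b ∈ Subgroup.zpowers b :=
    mul_mem ⟨i, hi⟩ (Subgroup.mem_zpowers b)
  have hne1 : t * b * t⁻¹ * b ≠ 1 := fun h1 => hinv (eq_inv_of_mul_eq_one_left h1)
  have hz := m.toHyp.zpowers_eq hb hmem hne1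
  obtain ⟨j, hj⟩ : b ∈ Subgroup.zpowers (t * b * t⁻¹ * b) := hz ▸ Subgroup.mem_zpowers b
  have hcm : Commute t (t * b * t⁻¹ * b) := mul_inv_eq_iff_eq_mul.1 hfix
  exact hne (hj ▸ hcm.zpow_right j)

/-- Some involution centralizes a conjugate. -/
theorem Min.exists_involution (heven : Even (Nat.card G)) :
    ∃ t c, orderOf t = 2 ∧ IsConj a c ∧ Commute t c := by
  by_contra hne
  push Not at hne
  haveI : Fact (Nat.Prime 2) := ⟨Nat.prime_two⟩
  obtain ⟨t, ht⟩ := exists_prime_orderOf_dvd_card' (G := G) 2 (even_iff_two_dvd.1 heven)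
  refine m.false_of_isolated (t := t) ⟨ht, fun g hg => ?_⟩
  by_contra hgt
  have hs : orderOf (g * t * g⁻¹) = 2 := by rw [orderOf_conj', ht]
  obtain ⟨b, hb, htb, hsb⟩ := m.common ht hs hg
  have h1 := m.inverts ht hb htb (hne t b ht hb)
  have h2 := m.inverts hs hb hsb (hne _ b hs hb)
  have htt : t * t = 1 := by rw [← sq, ← ht, pow_orderOf_eq_one]
  have hss : g * t * g⁻¹ * (g * t * g⁻¹) = 1 := by rw [← sq, ← hs, pow_orderOf_eq_one]
  have ho : orderOf (t * (g * t * g⁻¹)) = 2 := by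
    rw [orderOf_eq_prime_iff]
    refine ⟨?_, fun h0 => hgt ?_⟩
    · rw [hg.mul_pow, sq, sq, htt, hss, one_mul]
    · rw [eq_inv_of_mul_eq_one_right h0, inv_eq_self_of_orderOf_two ht]
  refine hne _ b ho hb (mul_inv_eq_iff_eq_mul.1 ?_)
  calc t * (g * t * g⁻¹) * b * (t * (g * t * g⁻¹))⁻¹
      = t * ((g * t * g⁻¹) * b * (g * t * g⁻¹)⁻¹) * t⁻¹ := by group
    _ = (t * b * t⁻¹)⁻¹ := by rw [h2]; group
    _ = b := by rw [h1, inv_inv]

/-- An involution centralizing only one conjugate is isolated. -/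
theorem Min.two_fixed {t : G} (ht : orderOf t = 2) (hc : IsConj a c) (htc : Commute t c) :
    ∃ b, IsConj a b ∧ Commute t b ∧ b ∉ Subgroup.zpowers c := by
  by_contra hone
  push Not at hone
  have h := m.toHyp
  refine m.false_of_isolated (t := t) ⟨ht, fun g hg => ?_⟩
  set s := g * t * g⁻¹
  have hs : orderOf s = 2 := (orderOf_conj' g t).trans ht
  have hsone : ∀ b, IsConj a b → Commute s b → b ∈ Subgroup.zpowers (g * c * g⁻¹) := by
    intro b hb hsb
    have h1 : Commute t (g⁻¹ * b * g) := by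
      have := hsb.map (MulAut.conj g⁻¹).toMonoidHom
      simpa [s, mul_assoc] using this
    have h2 := hone _ (by simpa using isConj_conj hb g⁻¹) h1
    rw [← zpowers_map_conj]
    exact mem_map_conj.2 h2
  have hsc : Commute s c := by
    have h1 : Commute t (s * c * s⁻¹) := (hg.mul_right htc).mul_right hg.inv_right
    refine h.norm_cent hc (isConj_conj hc g) ?_ (hone _ (isConj_conj hc s) h1)
    have := htc.map (MulAut.conj g).toMonoidHom
    simpa [s] using this
  have hz : Subgroup.zpowers (g * c * g⁻¹) = Subgroup.zpowers c :=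
    (h.zpowers_eq (isConj_conj hc g) (hsone c hc hsc) (h.ne_one hc)).symm
  have hrefl : ∀ {x : G}, orderOf x = 2 → Commute x c →
      (∀ b, IsConj a b → Commute x b → b ∈ Subgroup.zpowers c) → ∀ b, IsConj a b →
      ∀ k y, k ∈ qpart q (Subgroup.closure ({b, c} : Set G)) → y ∈ Subgroup.zpowers c →
      b = k * y * k⁻¹ → x * b * x⁻¹ = k⁻¹ * y * k := by
    intro x hx hxc hxone b hb k y hk hy e
    obtain ⟨d, r, hd, hxd, hdF, hr, -, e₁, e₂⟩ := h.mid hx hc hxc hb
    have hzd := h.zpowers_eq hc (hxone d hd hxd) (h.ne_one hd)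
    have hF := (h.pair_normalizer hb hx).1
    have hle : Subgroup.closure ({b, c} : Set G) ≤
        Subgroup.closure ({b, x * b * x⁻¹} : Set G) := by
      rw [Subgroup.closure_le]
      rintro z (rfl | rfl)
      · exact Subgroup.subset_closure (Or.inl rfl)
      · exact Subgroup.zpowers_le.2 hdF (hzd ▸ Subgroup.mem_zpowers _)
    rw [e₂, h.mirror hF hb hd hdF hr e₁ (qpart_mono hle hk) (hzd ▸ hy) e]
  have hst : s⁻¹ * t = 1 := m.eq_one_of_commute fun b hb => by
    obtain ⟨k, hk, y, hy, e⟩ := h.member (h.oddSys_pair hb hc) hc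
      (Subgroup.subset_closure (Or.inr rfl)) hb (Subgroup.subset_closure (Or.inl rfl))
    have e₁ := hrefl ht htc hone b hb k y hk hy e
    have e₂ := hrefl hs hsc (fun b hb hsb => hz ▸ hsone b hb hsb) b hb k y hk hy e
    refine mul_inv_eq_iff_eq_mul.1 ?_
    calc s⁻¹ * t * b * (s⁻¹ * t)⁻¹ = s⁻¹ * (t * b * t⁻¹) * s := by group
      _ = s⁻¹ * (s * b * s⁻¹) * s := by rw [e₁, e₂]
      _ = b := by group
  exact inv_mul_eq_one.1 hst

/-- The fixed part of the `q`-group of a pair lies in the core of the centralizer. -/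
theorem Min.mem_core {t : G} (ht : orderOf t = 2) {F : Subgroup G} (hF : OddSys a F)
    (hd : IsConj a c) (hdF : c ∈ F) (htc : Commute t c) {k : G} (hk : k ∈ qpart q F)
    (htk : Commute t k) : k ∈ centralizerPPrimeCore 2 t := by
  have h := m.toHyp
  have ht1 : t ≠ 1 := fun h1 => by rw [h1, orderOf_one] at ht; omega
  obtain ⟨-, -, hfix, -⟩ := h.qpart_spec hF hd hdF
  set D := blk a t
  have hD : OddSys a D := m.oddSys_centralizer ht1
  have hDO : D ≤ centralizerPPrimeCore 2 t :=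
    le_centralizerPPrimeCore (mclos_le a _) hD.odd fun n hn => blk_mem_normalizer hn
  set K0 := qpart q F ⊓ Subgroup.centralizer ({t} : Set G)
  set E0 := ecore q F ⊓ Subgroup.centralizer ({t} : Set G)
  have hK0 : ∀ x : K0, ⁅(x : G), c⁆ ∈ K0 := fun x => Subgroup.mem_inf.2 ⟨by
    rw [commutatorElement_def]
    exact h.conj_comm_mem hF hd hdF x.2.1 hdF, by
    rw [Subgroup.mem_centralizer_singleton_iff, commutatorElement_def]
    have hx : Commute t (x : G) := (Subgroup.mem_centralizer_singleton_iff.1 x.2.2).symm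
    exact (((hx.mul_right htc).mul_right hx.inv_right).mul_right htc.inv_right).symm.eq⟩
  let φ : (K0 ⧸ E0.subgroupOf K0) → (K0 ⧸ E0.subgroupOf K0) :=
    Quotient.lift (fun x => QuotientGroup.mk ⟨⁅(x : G), c⁆, hK0 x⟩) (by
      intro x x' hxx
      have h1 : (x : G)⁻¹ * x' ∈ E0 := by
        simpa [Subgroup.mem_subgroupOf] using QuotientGroup.leftRel_apply.1 hxx
      refine congrArg QuotientGroup.mk (Subtype.ext ?_)
      have h2 := h1.1.2 c hdF
      simp only [commutatorElement_def]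
      calc (x : G) * c * (x : G)⁻¹ * c⁻¹
          = (x : G) * ((c * ((x : G)⁻¹ * x')) * ((x : G)⁻¹ * x')⁻¹) * (x : G)⁻¹ * c⁻¹ := by group
        _ = (x : G) * ((((x : G)⁻¹ * x') * c) * ((x : G)⁻¹ * x')⁻¹) * (x : G)⁻¹ * c⁻¹ := by rw [h2]
        _ = x' * c * (x' : G)⁻¹ * c⁻¹ := by group)
  have hinj : Function.Injective φ := by
    rintro ⟨x⟩ ⟨x'⟩ hxx
    have h1 : (⁅(x : G), c⁆)⁻¹ * ⁅(x' : G), c⁆ ∈ E0 := by
      simpa [Subgroup.mem_subgroupOf] using QuotientGroup.eq.1 hxx
    obtain ⟨ε, hε, he⟩ : ∃ ε ∈ E0, ⁅(x' : G), c⁆ = ⁅(x : G), c⁆ * ε :=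
      ⟨_, h1, (mul_inv_cancel_left _ _).symm⟩
    have hxF := qpart_le q F x.2.1
    have hP1 : IsConj a ((x : G) * c * (x : G)⁻¹) := isConj_conj hd _
    have hεc : Commute ((x : G) * c * (x : G)⁻¹) ε :=
      hε.1.2 _ (mul_mem (mul_mem hxF hdF) (inv_mem hxF))
    have he' : (x' : G) * c * (x' : G)⁻¹ = (x : G) * c * (x : G)⁻¹ * ε := by
      have h2 := hε.1.2 c hdF
      calc (x' : G) * c * (x' : G)⁻¹ = ⁅(x' : G), c⁆ * c := by rw [commutatorElement_def]; group
        _ = ⁅(x : G), c⁆ * (ε * c) := by rw [he, mul_assoc]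
        _ = _ := by rw [← h2, commutatorElement_def]; group
    have hε1 : ε = 1 := by
      obtain ⟨n, hn⟩ := (h.qpart_spec hF hd hdF).1 ⟨ε, hε.1.1⟩
      rw [← orderOf_eq_one_iff]
      refine Nat.eq_one_of_dvd_coprimes (h.coprime_qpow n)
        (orderOf_dvd_of_pow_eq_one (by simpa using congrArg Subtype.val hn))
        (orderOf_dvd_of_pow_eq_one ?_)
      have h3 := pow_orderOf_eq_one ((x' : G) * c * (x' : G)⁻¹)
      rw [h.orderOf_eq (isConj_conj hd _), he', hεc.mul_pow, ← h.orderOf_eq hP1,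
        pow_orderOf_eq_one, one_mul, h.orderOf_eq hP1] at h3
      exact h3
    rw [hε1, mul_one] at he'
    refine QuotientGroup.eq.2 (Subgroup.mem_subgroupOf.2 ?_)
    refine ⟨?_, (mul_mem (inv_mem x.2.2) x'.2.2 :
      (x : G)⁻¹ * x' ∈ Subgroup.centralizer ({t} : Set G))⟩
    refine hfix _ (mul_mem (inv_mem x.2.1) x'.2.1) (mul_inv_eq_iff_eq_mul.1 ?_)
    calc (x : G)⁻¹ * x' * c * ((x : G)⁻¹ * x')⁻¹ = (x : G)⁻¹ * (x' * c * (x' : G)⁻¹) * x := by group
      _ = c := by rw [he']; group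
  have hk0 : k ∈ K0 := ⟨hk, Subgroup.mem_centralizer_singleton_iff.2 htk.symm.eq⟩
  obtain ⟨x, hx⟩ := Finite.surjective_of_injective hinj (QuotientGroup.mk ⟨k, hk0⟩)
  induction x using QuotientGroup.induction_on with
  | H x =>
  have h1 : (⁅(x : G), c⁆)⁻¹ * k ∈ E0 := by
    simpa [Subgroup.mem_subgroupOf] using QuotientGroup.eq.1 hx
  set ε := (⁅(x : G), c⁆)⁻¹ * k
  have hxd : ⁅(x : G), c⁆ ∈ D := by
    have hx' : Commute t (x : G) := (Subgroup.mem_centralizer_singleton_iff.1 x.2.2).symm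
    rw [commutatorElement_def]
    exact mul_mem (mem_blk (isConj_conj hd _) ((hx'.mul_right htc).mul_right hx'.inv_right).symm)
      (inv_mem (mem_blk hd htc.symm))
  rw [show k = ⁅(x : G), c⁆ * ε from (mul_inv_cancel_left _ _).symm]
  refine mul_mem (hDO hxd) ?_
  by_cases hε1 : ε = 1
  · rw [hε1]; exact one_mem _
  have hεt : Commute ε t := Subgroup.mem_centralizer_singleton_iff.1 h1.2
  rcases m.dich with hf | hs
  · exact absurd (hf F hF ε h1.1.1 c hd hdF (h.ecore_commute hdF h1.1)) hε1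
  set X := blk a ε
  have hX : IsBlock q a X := m.isBlock_blk hF hd hdF h1.1 hε1
  have hFX : F ≤ X := m.le_blk hF h1.1
  have hcX := hFX hdF
  have hεX := m.ecore_mono hX.1 hFX hd hdF h1.1
  obtain ⟨b₀, hb₀, htb₀, hne⟩ := m.two_fixed ht hd htc
  have hDX := m.fix_le hs hX ht1 hd htc hcX hεX hε1 hεt hb₀ htb₀ hne
  set N := ecore q X ⊓ Subgroup.centralizer ({t} : Set G)
  refine le_centralizerPPrimeCore (N := N) inf_le_right ?_ ?_ ⟨hεX, h1.2⟩
  · exact hX.1.odd.of_dvd_nat (Subgroup.card_dvd_of_le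
      ((inf_le_left.trans inf_le_left).trans (qpart_le q X)))
  intro n hn
  have hcX' : c ∈ X.map (MulAut.conj n).toMonoidHom := by
    have hcD : c ∈ D.map (MulAut.conj n).toMonoidHom := by
      rw [map_conj_eq_iff.2 (blk_mem_normalizer hn)]
      exact mem_blk hd htc.symm
    exact Subgroup.map_mono hDX hcD
  have hn' : Commute (n * ε * n⁻¹) t := (hn.mul_left hεt).mul_left hn.inv_left
  have hnX : n ∈ Subgroup.normalizer (X : Set G) := by
    rw [← map_conj_eq_iff]
    have hcard : Nat.card (X.map (MulAut.conj n).toMonoidHom : Subgroup G) = Nat.card X :=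
      (Nat.card_congr (X.equivMapOfInjective (MulAut.conj n).toMonoidHom
        (MulAut.conj n).injective).toEquiv).symm
    rcases m.block_le hs hX (isBlock_map n hX) ht hd htc hεX hε1 hεt (ecore_conj hεX)
        (by simpa using hε1) hn' hcX hcX' hb₀ htb₀ hne with h' | h'
    · exact (Subgroup.eq_of_le_of_card_ge h' hcard.le).symm
    · exact Subgroup.eq_of_le_of_card_ge h' hcard.ge
  refine mem_normalizer_of_le ?_
  rintro _ ⟨z, hz, rfl⟩
  have hz2 : Commute z t := Subgroup.mem_centralizer_singleton_iff.1 hz.2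
  exact ⟨ecore_conj_mem hnX hz.1,
    Subgroup.mem_centralizer_singleton_iff.2 ((hn.mul_left hz2).mul_left hn.inv_left).eq⟩

/-- A conjugate times the involution looks like the involution. -/
theorem Min.char_eq {M : Ideal AlgInt} [M.IsPrime] [Fintype G] (hM : IsPModular 2 M) {t : G}
    (ht : orderOf t = 2) (hc : IsConj a c) (htc : Commute t c) {χ : IrrCharacter G}
    (hχ : χ ∈ principalBlock M G) {b : G} (hb : IsConj a b) :
    (χ : G → ℂ) (b * t) = (χ : G → ℂ) t := by
  have h := m.toHyp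
  have ht1 : t ≠ 1 := fun h1 => by rw [h1, orderOf_one] at ht; omega
  obtain ⟨hF, hN⟩ := h.pair_normalizer hb ht
  obtain ⟨d, hd, htd, hdF⟩ := h.exists_center ht hc htc hb
  set F := Subgroup.closure ({b, t * b * t⁻¹} : Set G)
  obtain ⟨f, -, y, hy, hty, e⟩ :=
    exists_conj_coset ht hF.odd hN (Subgroup.subset_closure (Or.inl rfl) : b ∈ F)
  rw [e, CfsgLib.Block.Chr.isClassFunction_irr χ]
  refine CfsgLib.Block.principal_apply_mul_core hM (k := 1) (by rw [ht, pow_one]) ?_ hχ
  obtain ⟨k, hk, z, hz, rfl⟩ := h.decomp hF hd hdF hy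
  have htz : Commute t z := by
    obtain ⟨i, rfl⟩ := hz
    exact htd.zpow_right i
  have htk : Commute t k := by simpa using hty.mul_right htz.inv_right
  refine mul_mem (m.mem_core ht hF hd hdF htd hk htk) ?_
  exact le_centralizerPPrimeCore (mclos_le a _) (m.oddSys_centralizer ht1).odd
    (fun n hn => blk_mem_normalizer hn)
    (Subgroup.zpowers_le.2 (mem_blk hd htd.symm) hz)

/-- A minimal counterexample has odd order. -/
theorem Min.odd : Odd (Nat.card G) := by
  classical
  rw [← Nat.not_even_iff_odd]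
  intro heven
  obtain ⟨t, c, ht, hc, htc⟩ := m.exists_involution heven
  haveI := Fintype.ofFinite G
  haveI : Fact (Nat.Prime 2) := ⟨Nat.prime_two⟩
  obtain ⟨M, hM⟩ := CfsgLib.Block.exists_isPModular Nat.prime_two
  haveI : M.IsPrime := hM.2.1.isPrime
  letI := CfsgLib.Block.Chr.irrFintype (G := G)
  have hgen : Subgroup.normalClosure ({a} : Set G) = ⊤ := by
    rw [eq_top_iff, ← m.gen]
    refine (Subgroup.closure_le _).2 fun b hb => ?_
    obtain ⟨g, rfl⟩ := isConj_iff.1 hb.1
    exact Subgroup.normalClosure_normal.conj_mem _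
      (Subgroup.subset_normalClosure (Set.mem_singleton a)) g
  have key : ∀ χ : IrrCharacter G, χ ∈ principalBlock M G →
      χ ≠ CfsgLib.Block.oneIrr G → (χ : G → ℂ) t = 0 := by
    intro χ hχ hne
    by_contra h0
    refine hne (CfsgLib.ZStar.eq_oneIrr_of_apply_eq hgen (?_ : (χ : G → ℂ) a = (χ : G → ℂ) 1))
    have h1 := CfsgLib.BlocksB.sum_conj_mul χ.2 a t
    rw [Finset.sum_congr rfl fun g _ => m.char_eq hM ht hc htc hχ (isConj_iff.2 ⟨g, rfl⟩),
      Finset.sum_const, Finset.card_univ, nsmul_eq_mul, ← Nat.card_eq_fintype_card] at h1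
    have hG : (Nat.card G : ℂ) ≠ 0 := Nat.cast_ne_zero.2 Nat.card_pos.ne'
    apply mul_left_cancel₀ (mul_ne_zero hG h0)
    linear_combination -h1
  have hsum := CfsgLib.BlockB.sum_principal_eq_zero hM (y := t) (k := 1)
    (by rw [ht, pow_one]) (fun χ => (χ : G → ℂ) 1) fun s _ hs => by
      refine CfsgLib.BlockB.sum_irr_mul_eq_zero fun hcj => hs ?_
      rw [inv_one, isConj_one_left] at hcj
      rw [show s = t⁻¹ from eq_inv_of_mul_eq_one_right hcj, orderOf_inv, ht]
  rw [Finset.sum_eq_single (CfsgLib.Block.oneIrr G)] at hsum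
  · simp at hsum
  · intro χ hχ hne
    rw [key χ (Finset.mem_filter.1 hχ).2 hne, zero_mul]
  · intro hnot
    exact absurd (Finset.mem_filter.2 ⟨Finset.mem_univ _, CfsgLib.Block.oneIrr_mem_principalBlock⟩) hnot

end CfsgLib.PairGen
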