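import Cfsg.Agent.PairGen.Dich
import Cfsg.Agent.PairGen.Induct
import Cfsg.Prelude.Def_Solvable

/-!
# Groups generated by a class of subgroups of order `p` generating a fixed odd group in pairs
-/

set_option autoImplicit false
set_option linter.unusedSectionVars false
set_option linter.style.haveILetI false

namespace CfsgLib.PairGen

open scoped Pointwise

universe u

variable {G : Type u} [Group G] [Finite G]

/-- The original hypothesis gives the initial one. -/
theorem exists_start (hG : ¬ IsMulCommutative G) (p : ℕ) (hp : p.Prime) (hp2 : p ≠ 2)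
    (D : Set (Subgroup G)) (hDp : ∀ A ∈ D, Nat.card ↥A = p)
    (hDinv : ∀ A ∈ D, ∀ g : G, A.map (MulAut.conj g).toMonoidHom ∈ D) (hDgen : sSup D = ⊤)
    {F : Type*} [Group F] [Finite F] (hF : Odd (Nat.card F))
    (hpair : ∀ A ∈ D, ∀ B ∈ D, A ≠ B → Nonempty (↥(A ⊔ B) ≃* F)) :
    ∃ (q : ℕ) (a : G), Start p q a := by
  haveI : Fact p.Prime := ⟨hp⟩
  -- some two members do not commute
  obtain ⟨A₀, hA₀, B₀, hB₀, hAB₀, hnc⟩ :
      ∃ A ∈ D, ∃ B ∈ D, A ≠ B ∧ ∃ x ∈ A, ∃ y ∈ B, ¬ Commute x y := by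
    by_contra hne
    push Not at hne
    have hall : ∀ A ∈ D, ∀ B ∈ D, ∀ x ∈ A, ∀ y ∈ B, Commute x y := by
      intro A hA B hB x hx y hy
      by_cases hAB : A = B
      · subst hAB
        haveI : IsCyclic A := isCyclic_of_prime_card (hDp A hA)
        exact congrArg Subtype.val (IsMulCommutative.is_comm.comm (⟨x, hx⟩ : A) ⟨y, hy⟩)
      · exact hne A hA B hB hAB x hx y hy
    have hc : sSup D ≤ Subgroup.center G := sSup_le fun A hA x hx => by
      refine Subgroup.mem_center_iff.2 fun g => ?_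
      have h1 : sSup D ≤ Subgroup.centralizer ({x} : Set G) := sSup_le fun B hB y hy =>
        Subgroup.mem_centralizer_singleton_iff.2 (hall A hA B hB x hx y hy).eq.symm
      exact Subgroup.mem_centralizer_singleton_iff.1 (h1 (hDgen ▸ Subgroup.mem_top g))
    rw [hDgen] at hc
    exact hG ⟨⟨fun x y => Subgroup.mem_center_iff.1 (hc (Subgroup.mem_top y)) x⟩⟩
  -- members commute exactly when equal, as the pairs are all alike
  have hFnc : ¬ IsMulCommutative F := by
    intro hc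
    obtain ⟨e⟩ := hpair A₀ hA₀ B₀ hB₀ hAB₀
    obtain ⟨x, hx, y, hy, hxy⟩ := hnc
    refine hxy ?_
    have h1 : (⟨x, Subgroup.mem_sup_left hx⟩ : ↥(A₀ ⊔ B₀)) * ⟨y, Subgroup.mem_sup_right hy⟩ =
        ⟨y, Subgroup.mem_sup_right hy⟩ * ⟨x, Subgroup.mem_sup_left hx⟩ :=
      e.injective (by rw [map_mul, map_mul, hc.is_comm.comm])
    exact congrArg Subtype.val h1
  have hcardne : ∀ A ∈ D, ∀ B ∈ D, A ≠ B → A < A ⊔ B := fun A hA B hB hAB =>
    left_lt_sup.2 fun hBA => hAB (Subgroup.eq_of_le_of_card_ge hBA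
      (by rw [hDp A hA, hDp B hB])).symm
  have hFp : ¬ IsPGroup p F := by
    intro hFp
    obtain ⟨e⟩ := hpair A₀ hA₀ B₀ hB₀ hAB₀
    set P := A₀ ⊔ B₀
    have hP : IsPGroup p P := hFp.of_equiv e.symm
    haveI : Group.IsNilpotent P := hP.isNilpotent
    have hne : A₀.subgroupOf P ≠ ⊤ := fun ht =>
      (hcardne A₀ hA₀ B₀ hB₀ hAB₀).not_ge (Subgroup.subgroupOf_eq_top.1 ht)
    obtain ⟨M, hM, hAM⟩ := (eq_top_or_exists_le_coatom (A₀.subgroupOf P)).resolve_left hne
    haveI hMn : M.Normal := Subgroup.NormalizerCondition.normal_of_coatom M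
      Group.normalizerCondition_of_isNilpotent hM
    -- all conjugates of `A₀` under `P` are `A₀`
    have hconj : ∀ g ∈ P, A₀.map (MulAut.conj g).toMonoidHom = A₀ := by
      intro g hg
      by_contra hne'
      obtain ⟨e'⟩ := hpair A₀ hA₀ _ (hDinv A₀ hA₀ g) (Ne.symm hne')
      have hle : A₀ ⊔ A₀.map (MulAut.conj g).toMonoidHom ≤ M.map P.subtype := by
        refine sup_le (fun x hx => ⟨⟨x, Subgroup.mem_sup_left hx⟩, hAM (Subgroup.mem_subgroupOf.2 hx), rfl⟩) ?_
        rintro _ ⟨x, hx, rfl⟩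
        exact ⟨_, hMn.conj_mem ⟨x, Subgroup.mem_sup_left hx⟩ (hAM (Subgroup.mem_subgroupOf.2 hx))
          ⟨g, hg⟩, rfl⟩
      have h1 := Subgroup.card_dvd_of_le hle
      rw [Nat.card_congr e'.toEquiv, ← Nat.card_congr e.toEquiv,
        Subgroup.card_map_of_injective P.subtype_injective] at h1
      exact hM.1 (Subgroup.eq_top_of_card_eq M (le_antisymm (Subgroup.card_le_card_group M)
        (Nat.le_of_dvd Nat.card_pos h1)))
    -- so `A₀` is central in `P`, which is then commutative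
    have hAn : (A₀.subgroupOf P).Normal := by
      refine Subgroup.normal_subgroupOf_of_le_normalizer fun g hg => map_conj_eq_iff.1 (hconj g hg)
    obtain ⟨z, hz, hz1⟩ := (Subgroup.bot_or_exists_ne_one _).resolve_left
      (CfsgLib.PGroupBasic.inf_center_ne_bot (A₀.subgroupOf P) fun h0 => by
        have h2 := Subgroup.subgroupOf_eq_bot.1 h0
        rw [disjoint_iff, inf_eq_left.2 (le_sup_left : A₀ ≤ P)] at h2
        exact hp.one_lt.ne' (by rw [← hDp A₀ hA₀, h2, Subgroup.card_bot]))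
    obtain ⟨x, hx, y, hy, hxy⟩ := hnc
    obtain ⟨hzA, hzC⟩ := Subgroup.mem_inf.1 hz
    have hgen : Subgroup.zpowers (z : G) = A₀ := by
      refine Subgroup.eq_of_le_of_card_ge (Subgroup.zpowers_le.2 (Subgroup.mem_subgroupOf.1 hzA)) ?_
      rw [hDp A₀ hA₀, Nat.card_zpowers]
      have hd := Subgroup.orderOf_dvd_natCard A₀ (Subgroup.mem_subgroupOf.1 hzA)
      rw [hDp A₀ hA₀] at hd
      rcases (Nat.dvd_prime hp).1 hd with h1 | h1
      · exact absurd (orderOf_eq_one_iff.1 h1) fun h2 => hz1 (Subtype.ext h2)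
      · exact h1.ge
    rw [← hgen] at hx
    obtain ⟨i, rfl⟩ := hx
    refine hxy (Commute.zpow_left ?_ i)
    exact (congrArg Subtype.val
      (Subgroup.mem_center_iff.1 hzC ⟨y, Subgroup.mem_sup_right hy⟩)).symm
  obtain ⟨q, hq, hqF, hqp⟩ : ∃ q : ℕ, q.Prime ∧ q ∣ Nat.card F ∧ q ≠ p := by
    by_contra hne
    push Not at hne
    exact hFp (IsPGroup.of_card
      (Nat.eq_prime_pow_of_unique_prime_dvd Nat.card_pos.ne' fun {d} hd hdd => hne d hd hdd))
  -- two members lie in no common `p`-group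
  have hps : ∀ P : Subgroup G, IsPGroup p P → ∀ A ∈ D, ∀ B ∈ D, A ≤ P → B ≤ P → A = B := by
    intro P hP A hA B hB hAP hBP
    by_contra hAB
    obtain ⟨e⟩ := hpair A hA B hB hAB
    exact hFp ((hP.to_le (sup_le hAP hBP)).of_equiv e)
  -- members are conjugate
  have htrans : ∀ B ∈ D, ∃ g : G, B = A₀.map (MulAut.conj g).toMonoidHom := by
    intro B hB
    obtain ⟨S, hS⟩ := (IsPGroup.of_card (p := p) (n := 1) (by rw [pow_one]; exact hDp A₀ hA₀) :
      IsPGroup p A₀).exists_le_sylow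
    obtain ⟨T, hT⟩ := (IsPGroup.of_card (p := p) (n := 1) (by rw [pow_one]; exact hDp B hB) :
      IsPGroup p B).exists_le_sylow
    obtain ⟨g, hg⟩ := MulAction.exists_smul_eq G S T
    refine ⟨g, hps T T.2 B hB _ (hDinv A₀ hA₀ g) hT ?_⟩
    rw [← hg, Sylow.coe_subgroup_smul]
    rintro _ ⟨x, hx, rfl⟩
    exact ⟨x, hS hx, rfl⟩
  haveI : IsCyclic A₀ := isCyclic_of_prime_card (hDp A₀ hA₀)
  obtain ⟨⟨a, ha⟩, hgen⟩ := IsCyclic.exists_generator (α := A₀)
  have hza : Subgroup.zpowers a = A₀ := by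
    refine le_antisymm (Subgroup.zpowers_le.2 ha) fun x hx => ?_
    obtain ⟨i, hi⟩ := hgen ⟨x, hx⟩
    exact ⟨i, congrArg Subtype.val hi⟩
  have hmem : ∀ b, IsConj a b → Subgroup.zpowers b ∈ D := by
    intro b hb
    obtain ⟨g, rfl⟩ := isConj_iff.1 hb
    rw [← zpowers_map_conj, hza]
    exact hDinv A₀ hA₀ g
  have hne_of : ∀ b c, IsConj a b → IsConj a c → b ∉ Subgroup.zpowers c →
      Nonempty (↥(Subgroup.closure ({b, c} : Set G)) ≃* F) := by
    intro b c hb hc hbc
    have e1 : Subgroup.closure ({b, c} : Set G) = Subgroup.zpowers b ⊔ Subgroup.zpowers c := by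
      rw [Set.insert_eq, Subgroup.closure_union, ← Subgroup.zpowers_eq_closure,
        ← Subgroup.zpowers_eq_closure]
    rw [e1]
    exact hpair _ (hmem b hb) _ (hmem c hc) fun e => hbc (e ▸ Subgroup.mem_zpowers b)
  have hord : orderOf a = p := by rw [← Nat.card_zpowers, hza, hDp A₀ hA₀]
  refine ⟨q, a, ⟨hp, hq, hqp, hp.odd_of_ne_two hp2, hord, ?_, ?_, ?_, ?_, ?_⟩⟩
  · refine eq_top_iff.2 (hDgen.ge.trans (sSup_le fun B hB => ?_))
    obtain ⟨g, rfl⟩ := htrans B hB
    rw [← hza, zpowers_map_conj, Subgroup.zpowers_le]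
    exact mem_mclos (isConj_iff.2 ⟨g, rfl⟩) (Subgroup.mem_top _)
  · intro P hP b c hb hc hbP hcP
    rw [← hps P hP _ (hmem b hb) _ (hmem c hc) (Subgroup.zpowers_le.2 hbP)
      (Subgroup.zpowers_le.2 hcP)]
    exact Subgroup.mem_zpowers b
  · intro b c hb hc
    by_cases hbc : b ∈ Subgroup.zpowers c
    · rw [show Subgroup.closure ({b, c} : Set G) = Subgroup.zpowers c from le_antisymm
        ((Subgroup.closure_le _).2 (by
          rintro z (rfl | rfl)
          · exact hbc
          · exact Subgroup.mem_zpowers _))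
        (Subgroup.zpowers_le.2 (Subgroup.subset_closure (Or.inr rfl))), hDp _ (hmem c hc)]
      exact hp.odd_of_ne_two hp2
    · obtain ⟨e⟩ := hne_of b c hb hc hbc
      rw [Nat.card_congr e.toEquiv]; exact hF
  · intro b c b' c' hb hc hb' hc' hbc hbc'
    obtain ⟨e⟩ := hne_of b c hb hc hbc
    obtain ⟨e'⟩ := hne_of b' c' hb' hc' hbc'
    exact ⟨e.trans e'.symm⟩
  · intro b c hb hc hbc
    obtain ⟨e⟩ := hne_of b c hb hc hbc
    rw [Nat.card_congr e.toEquiv]; exact hqF

/-- Odd order, and the image of `⟨a⟩` is a Frobenius complement modulo the centre. -/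
theorem Hyp.frobenius {p q : ℕ} {a : G} (h : Hyp p q a) (hG : ¬ IsMulCommutative G) :
    Odd (Nat.card (G ⧸ Subgroup.center G)) ∧
      ∃ H : Subgroup (G ⧸ Subgroup.center G), Cfsg.IsFrobeniusComplement H := by
  refine ⟨h.oddCard.of_dvd_nat (Subgroup.card_quotient_dvd_card _), ?_⟩
  haveI : Fact p.Prime := ⟨h.hp⟩
  set f := QuotientGroup.mk' (Subgroup.center G)
  have hT : OddSys a (⊤ : Subgroup G) := ⟨h.gen, by rw [Subgroup.card_top]; exact h.oddCard⟩
  have haa : IsConj a a := IsConj.refl a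
  have hat : a ∈ (⊤ : Subgroup G) := Subgroup.mem_top a
  have haZ : a ∉ Subgroup.center G := by
    intro haZ
    have htop : ⊤ ≤ Subgroup.center G := by
      rw [← h.gen]
      refine (Subgroup.closure_le _).2 fun b hb => ?_
      obtain ⟨g, rfl⟩ := isConj_iff.1 hb.1
      exact Subgroup.Normal.conj_mem inferInstance a haZ g
    exact hG ⟨⟨fun x y => Subgroup.mem_center_iff.1 (htop (Subgroup.mem_top y)) x⟩⟩
  have hfa : orderOf (f a) = p := by
    refine ((Nat.dvd_prime h.hp).1 (h.hord ▸ orderOf_map_dvd f a)).resolve_left fun h1 => haZ ?_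
    exact (QuotientGroup.eq_one_iff a).1 (orderOf_eq_one_iff.1 h1)
  refine ⟨Subgroup.zpowers (f a), ?_, ?_, ?_⟩
  · rw [Ne, Subgroup.zpowers_eq_bot]
    intro h1
    rw [h1, orderOf_one] at hfa
    exact h.hp.one_lt.ne hfa
  · intro h1
    refine haZ (Subgroup.mem_center_iff.2 fun g => ?_)
    obtain ⟨i, hi⟩ := (h1 ▸ Subgroup.mem_top (f g) : f g ∈ Subgroup.zpowers (f a))
    simp only at hi
    rw [← map_zpow, QuotientGroup.mk'_eq_mk'] at hi
    obtain ⟨z, hz, rfl⟩ := hi
    calc a ^ i * z * a = a ^ i * (z * a) := by group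
      _ = a ^ i * (a * z) := by rw [(Subgroup.mem_center_iff.1 hz a).symm]
      _ = a * (a ^ i * z) := by group
  · intro g hg
    by_contra hne
    obtain ⟨z, hz, hz1⟩ := (Subgroup.bot_or_exists_ne_one _).resolve_left hne
    obtain ⟨hzA, hzB⟩ := Subgroup.mem_inf.1 hz
    obtain ⟨w, hw, rfl⟩ := hzB
    have hzp : Subgroup.zpowers (g * w * g⁻¹) = Subgroup.zpowers (f a) := by
      refine Subgroup.eq_of_le_of_card_ge (Subgroup.zpowers_le.2 hzA) ?_
      rw [Nat.card_zpowers, Nat.card_zpowers, hfa]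
      have hd := Subgroup.orderOf_dvd_natCard _ hzA
      rw [Nat.card_zpowers, hfa] at hd
      exact ((Nat.dvd_prime h.hp).1 hd).resolve_left (fun h2 => hz1 (orderOf_eq_one_iff.1 h2)) |>.ge
    have hga : g * f a * g⁻¹ ∈ Subgroup.zpowers (f a) := by
      have hwa : f a ∈ Subgroup.zpowers w := by
        refine (Subgroup.eq_of_le_of_card_ge (Subgroup.zpowers_le.2 hw) ?_).ge (Subgroup.mem_zpowers _)
        have hd := congrArg (fun K : Subgroup (G ⧸ Subgroup.center G) => Nat.card K) hzp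
        simp only [Nat.card_zpowers] at hd
        rw [Nat.card_zpowers, Nat.card_zpowers, ← hd]
        exact le_of_eq (by
          simpa using orderOf_injective (MulAut.conj g).toMonoidHom (MulAut.conj g).injective w)
      obtain ⟨i, hi⟩ := hwa
      simp only at hi
      rw [← hzp, ← hi, ← conj_zpow]
      exact zpow_mem (Subgroup.mem_zpowers _) i
    obtain ⟨g0, rfl⟩ := QuotientGroup.mk'_surjective (Subgroup.center G) g
    obtain ⟨i, hi⟩ := hga
    simp only at hi
    rw [← map_zpow, ← map_inv, ← map_mul, ← map_mul, QuotientGroup.mk'_eq_mk'] at hi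
    obtain ⟨y, hy, he⟩ := hi
    have hcom : Commute (g0 * a * g0⁻¹) a := by
      rw [← he]
      exact (Commute.zpow_self a i).mul_left (Subgroup.mem_center_iff.1 hy a).symm
    have h1 := h.mem_zpowers_of_commute (isConj_iff.2 ⟨g0, rfl⟩) haa hcom
    obtain ⟨k, hk, w', ⟨j, rfl⟩, rfl⟩ := h.decomp hT haa hat (Subgroup.mem_top g0)
    simp only at h1
    rw [show k * a ^ j * a * (k * a ^ j)⁻¹ = k * a * k⁻¹ by group] at h1
    have hkE := h.stab hT haa hat hk h1
    have hkZ : k ∈ Subgroup.center G :=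
      Subgroup.mem_center_iff.2 fun x => hkE.2 x (Subgroup.mem_top x)
    refine hg ?_
    rw [map_mul, show f k = 1 from (QuotientGroup.eq_one_iff k).2 hkZ, one_mul, map_zpow]
    exact zpow_mem (Subgroup.mem_zpowers _) j

end CfsgLib.PairGen
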