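import Cfsg.Agent.PairGen.Invol

/-!
# Blocks in a minimal counterexample

A block is the subgroup generated by the conjugates of `a` centralizing a given element of
`ecore q H`. The main lemma says that a block and another such subgroup sharing two conjugates,
one of which is normalized by elements of the other, coincide.
-/

set_option autoImplicit false
set_option linter.unusedSectionVars false
set_option linter.style.haveILetI false

namespace CfsgLib.PairGen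

open scoped commutatorElement

variable {G : Type*} [Group G]

/-- The conjugates of `a` centralizing `z`. -/
def blk (a z : G) : Subgroup G := mclos a (Subgroup.centralizer ({z} : Set G))

/-- A block. -/
def IsBlock (q : ℕ) (a : G) (X : Subgroup G) : Prop :=
  OddSys a X ∧ ∃ e ∈ ecore q X, e ≠ 1 ∧ X = blk a e

/-- A minimal counterexample. -/
structure Min (p q : ℕ) (a : G) : Prop extends Hyp p q a where
  oddProper : ∀ H : Subgroup G, mclos a H = H → H ≠ ⊤ → Odd (Nat.card H)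
  noCore : ∀ N : Subgroup G, N.Normal → Odd (Nat.card N) → N = ⊥
  noCentral : ∀ t : G, orderOf t = 2 → t ∉ Subgroup.center G

/-- The second alternative of the standing hypothesis. -/
def Special (q : ℕ) (a : G) : Prop :=
  ∀ H : Subgroup G, OddSys a H → ∀ x ∈ qpart q H, ∀ y ∈ qpart q H,
    ⁅x, y⁆ ∈ Subgroup.centralizer (H : Set G)

variable [Finite G] {p q : ℕ} {a c : G} (m : Min p q a)

/-- A finite subgroup is normalized by an element conjugating its generators into it. -/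
theorem mem_normalizer_of_le {H : Subgroup G} {g : G}
    (h : H.map (MulAut.conj g).toMonoidHom ≤ H) : g ∈ Subgroup.normalizer (H : Set G) :=
  map_conj_eq_iff.1 (Subgroup.eq_of_le_of_card_ge h (le_of_eq
    (Nat.card_congr (H.equivMapOfInjective _ (MulAut.conj g).injective).toEquiv)))

theorem mem_normalizer_centralizer {z n : G} (h : Commute n z) :
    n ∈ Subgroup.normalizer (Subgroup.centralizer ({z} : Set G) : Set G) :=
  Subgroup.le_normalizer (Subgroup.mem_centralizer_singleton_iff.2 h.eq)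

include m

theorem Min.center_eq {z : G} (hz : z ∈ Subgroup.center G) : z = 1 := by
  by_contra h1
  rcases Nat.even_or_odd (orderOf z) with he | ho
  · obtain ⟨j, hj⟩ := he
    refine m.noCentral (z ^ j) ?_ (Subgroup.pow_mem _ hz j)
    have hj0 : j ≠ 0 := fun h0 => (orderOf_pos z).ne' (by omega)
    rw [orderOf_pow' z hj0, hj, Nat.gcd_eq_right ⟨2, by ring⟩,
      show j + j = 2 * j by ring, Nat.mul_div_cancel _ (Nat.pos_of_ne_zero hj0)]
  · haveI : (Subgroup.zpowers z).Normal := ⟨fun n hn g => by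
      have hn' : n ∈ Subgroup.center G := Subgroup.zpowers_le.2 hz hn
      rwa [(Subgroup.mem_center_iff.1 hn' g), mul_inv_cancel_right]⟩
    exact h1 (Subgroup.zpowers_eq_bot.1 (m.noCore _ inferInstance (by rwa [Nat.card_zpowers])))

theorem Min.oddSys_centralizer {z : G} (hz : z ≠ 1) : OddSys a (blk a z) := by
  refine ⟨mclos_mclos a _, m.oddProper _ (mclos_mclos a _) fun h => hz (m.center_eq ?_)⟩
  refine Subgroup.mem_center_iff.2 fun g => ?_
  have hg : g ∈ blk a z := h ▸ Subgroup.mem_top g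
  exact Subgroup.mem_centralizer_singleton_iff.1 (mclos_le a _ hg)

theorem Min.oddSys_normalizer {U : Subgroup G} (hU : U ≠ ⊥) (hodd : Odd (Nat.card U)) :
    OddSys a (mclos a (Subgroup.normalizer (U : Set G))) := by
  refine ⟨mclos_mclos a _, m.oddProper _ (mclos_mclos a _) fun h => hU (m.noCore U ?_ hodd)⟩
  rw [← Subgroup.normalizer_eq_top_iff, eq_top_iff, ← h]
  exact mclos_le a _

theorem Min.ecore_mono {H T : Subgroup G} (hT : OddSys a T) (hHT : H ≤ T) (hc : IsConj a c)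
    (hcH : c ∈ H) {z : G} (hz : z ∈ ecore q H) : z ∈ ecore q T :=
  (m.toHyp.qpart_spec hT hc (hHT hcH)).2.2.1 z (qpart_mono hHT hz.1) (m.toHyp.ecore_commute hcH hz)

theorem Min.le_blk {H : Subgroup G} (hH : OddSys a H) {z : G} (hz : z ∈ ecore q H) :
    H ≤ blk a z :=
  le_of_members hH.closed fun b hb hbH => mem_mclos hb
    (Subgroup.mem_centralizer_singleton_iff.2 (hz.2 b hbH))

theorem Min.blk_eq {X : Subgroup G} (hX : IsBlock q a X) (hc : IsConj a c) (hcX : c ∈ X) {z : G}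
    (hz : z ∈ ecore q X) (hz1 : z ≠ 1) : blk a z = X := by
  obtain ⟨hXs, e, he, he1, heq⟩ := hX
  refine le_antisymm ?_ (m.le_blk hXs hz)
  rw [heq]
  exact m.le_blk (m.oddSys_centralizer hz1)
    (m.ecore_mono (m.oddSys_centralizer hz1) (m.le_blk hXs hz) hc hcX he)

theorem Min.isBlock_blk {H : Subgroup G} (hH : OddSys a H) (hc : IsConj a c) (hcH : c ∈ H)
    {z : G} (hz : z ∈ ecore q H) (hz1 : z ≠ 1) : IsBlock q a (blk a z) :=
  ⟨m.oddSys_centralizer hz1, z,
    m.ecore_mono (m.oddSys_centralizer hz1) (m.le_blk hH hz) hc hcH hz, hz1, rfl⟩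

/-- An element commuting with a nontrivial `ecore` element normalizes the block. -/
theorem Min.normalizes {X : Subgroup G} (hX : IsBlock q a X) (hc : IsConj a c) (hcX : c ∈ X)
    {z n : G} (hz : z ∈ ecore q X) (hz1 : z ≠ 1) (hn : Commute n z) :
    n ∈ Subgroup.normalizer (X : Set G) := by
  rw [← m.blk_eq hX hc hcX hz hz1]
  exact mclos_conj_mem (mem_normalizer_centralizer hn)

/-- An element normalizing `H` normalizes the block of `H`. -/
theorem Min.normalizes_blk {H : Subgroup G} (hH : OddSys a H) (hc : IsConj a c) (hcH : c ∈ H)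
    {z n : G} (hz : z ∈ ecore q H) (hz1 : z ≠ 1) (hn : n ∈ Subgroup.normalizer (H : Set G)) :
    n ∈ Subgroup.normalizer (blk a z : Set G) := by
  have hB := m.isBlock_blk hH hc hcH hz hz1
  have hz' := m.ecore_mono hB.1 (m.le_blk hH hz) hc hcH (ecore_conj_mem hn hz)
  have h1 : n * z * n⁻¹ ≠ 1 := by simpa using hz1
  rw [← map_conj_eq_iff, blk, mclos_map]
  conv_rhs => rw [← blk, ← m.blk_eq hB hc (m.le_blk hH hz hcH) hz' h1, blk]
  congr 1
  ext x
  rw [mem_map_conj, Subgroup.mem_centralizer_singleton_iff,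
    Subgroup.mem_centralizer_singleton_iff]
  constructor
  · intro h
    calc x * (n * z * n⁻¹) = n * ((n⁻¹ * x * n) * z) * n⁻¹ := by group
      _ = n * (z * (n⁻¹ * x * n)) * n⁻¹ := by rw [h]
      _ = n * z * n⁻¹ * x := by group
  · intro h
    calc n⁻¹ * x * n * z = n⁻¹ * (x * (n * z * n⁻¹)) * n := by group
      _ = n⁻¹ * (n * z * n⁻¹ * x) * n := by rw [h]
      _ = z * (n⁻¹ * x * n) := by group

/-- The point of `T` outside `Y` normalizing the auxiliary subgroup. -/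
theorem Min.side (hs : Special q a) {T Y : Subgroup G} (hT : OddSys a T) (hY : OddSys a Y)
    (hYT : Y ≤ T) (hc : IsConj a c) (hcY : c ∈ Y) (hTY : ¬ T ≤ Y)
    (hUab : ∀ u ∈ qpart q Y, ∀ u' ∈ qpart q Y, Commute u u')
    (V Wt : Subgroup G) (hVq : IsPGroup q V) (hVT : V ≤ Subgroup.normalizer (T : Set G))
    (hVY : V ≤ Subgroup.centralizer (Y : Set G)) (hWtE : Wt ≤ ecore q T)
    (hWt : ∀ x ∈ ecore q T, (∀ v ∈ V, Commute v x) → x ∈ Wt) :
    ∃ l ∈ qpart q T, l * c * l⁻¹ ∉ Y ∧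
      l * c * l⁻¹ ∈ Subgroup.normalizer ((qpart q Y ⊔ Wt ⊔ V : Subgroup G) : Set G) ∧
      ∀ u ∈ qpart q Y, ⁅l, u⁆ ∈ ecore q T := by
  haveI : Fact q.Prime := ⟨m.hq⟩
  have h := m.toHyp
  have hcT := hYT hcY
  obtain ⟨hK, -, hfix, hN⟩ := h.qpart_spec hT hc hcT
  have hUT : qpart q Y ≤ qpart q T := qpart_mono hYT
  have hcomm : ∀ l ∈ qpart q T, ∀ u ∈ qpart q Y, ⁅l, u⁆ ∈ ecore q T := fun l hl u hu =>
    Subgroup.mem_inf.2 ⟨by
      rw [commutatorElement_def]
      exact mul_mem (mul_mem (mul_mem hl (hUT hu)) (inv_mem hl)) (inv_mem (hUT hu)),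
      hs T hT l hl u (hUT hu)⟩
  -- an element of `qpart q T` moving `c` inside `Y`
  have hstab : ∀ k ∈ qpart q T, k * c * k⁻¹ ∈ Y →
      ∃ u ∈ qpart q Y, ∃ ε ∈ ecore q T, k = u * ε := by
    intro k hk hkY
    obtain ⟨u, hu, y, hy, e⟩ := h.member hY hc hcY (isConj_conj hc k) hkY
    refine ⟨u, hu, u⁻¹ * k, h.stab hT hc hcT (mul_mem (inv_mem (hUT hu)) hk) ?_, by group⟩
    rwa [show u⁻¹ * k * c * (u⁻¹ * k)⁻¹ = u⁻¹ * (k * c * k⁻¹) * u by group, e,
      show u⁻¹ * (u * y * u⁻¹) * u = y by group]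
  have hnorm : ∀ u ∈ qpart q Y, ∀ ε ∈ ecore q T,
      Y.map (MulAut.conj (u * ε)).toMonoidHom = Y := by
    intro u hu ε hε
    refine map_conj_eq_iff.2 (mul_mem (Subgroup.le_normalizer (qpart_le q Y hu))
      (mem_normalizer_of_le ?_))
    rintro _ ⟨y, hy, rfl⟩
    have : ε * y * ε⁻¹ = y := mul_inv_eq_iff_eq_mul.2 (hε.2 y (hYT hy)).symm
    simpa [this] using hy
  set S := {P : Subgroup G | ∃ k ∈ qpart q T, P = Y.map (MulAut.conj k).toMonoidHom}
  have hmove : ∃ P ∈ S, P ≠ Y := by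
    by_contra hne
    push Not at hne
    refine hTY (le_of_members hT.closed fun b hb hbT => ?_)
    obtain ⟨k, hk, y, hy, rfl⟩ := h.member hT hc hcT hb hbT
    rw [← hne _ ⟨k, hk, rfl⟩]
    exact conj_mem_map_conj (Subgroup.zpowers_le.2 hcY hy)
  obtain ⟨n, hn⟩ := ncard_conj_orbit (qpart q T) hK Y
  have hYS : Y ∈ S := ⟨1, one_mem _, (map_conj_one Y).symm⟩
  have hqn : q ∣ S.ncard := by
    rw [hn]
    rcases n with _ | n
    · obtain ⟨P, hPS, hP⟩ := hmove
      obtain ⟨Z, hZ⟩ := Set.ncard_eq_one.1 (hn.trans (pow_zero q))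
      exact absurd ((hZ ▸ hPS : P ∈ ({Z} : Set _)).trans
        (hZ ▸ hYS : Y ∈ ({Z} : Set _)).symm) hP
    · exact dvd_pow_self q (Nat.succ_ne_zero n)
  have hVfixY : ∀ v ∈ V, Y.map (MulAut.conj v).toMonoidHom = Y := fun v hv =>
    map_conj_eq_iff.2 (mem_normalizer_of_le (by
      rintro _ ⟨y, hy, rfl⟩
      have : v * y * v⁻¹ = y := mul_inv_eq_iff_eq_mul.2 (hVY hv y hy).symm
      simpa [this] using hy))
  obtain ⟨_, ⟨l, hl, rfl⟩, hlY, hlfix⟩ := exists_conj_fixed_ne V hVq S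
    (by
      rintro v hv _ ⟨k, hk, rfl⟩
      refine ⟨v * k * v⁻¹, (Subgroup.mem_normalizer_iff.1 (qpart_conj_mem (hVT hv)) k).1 hk, ?_⟩
      conv_rhs => rw [← hVfixY v hv, map_conj_map_conj]
      rw [map_conj_map_conj]; congr 3; group)
    hqn hYS hVfixY
  have hlT := qpart_le q T hl
  have hb : l * c * l⁻¹ ∈ T := mul_mem (mul_mem hlT hcT) (inv_mem hlT)
  have hcent : ∀ ε ∈ ecore q T, ∀ x ∈ T, x * ε * x⁻¹ = ε := fun ε hε x hx =>
    mul_inv_eq_iff_eq_mul.2 (hε.2 x hx)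
  -- the action of `V` on `l`
  have hact : ∀ v ∈ V, ∃ u ∈ qpart q Y, ∃ ε ∈ ecore q T, v * l * v⁻¹ = l * (u * ε) := by
    intro v hv
    have hvl : v * l * v⁻¹ ∈ qpart q T :=
      (Subgroup.mem_normalizer_iff.1 (qpart_conj_mem (hVT hv)) l).1 hl
    have he : Y.map (MulAut.conj (l⁻¹ * (v * l * v⁻¹))).toMonoidHom = Y := by
      have h1 := hlfix v hv
      rw [map_conj_map_conj] at h1
      have h2 : Y.map (MulAut.conj (v * l * v⁻¹)).toMonoidHom = Y.map (MulAut.conj l).toMonoidHom := by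
        conv_rhs => rw [← h1]
        conv_lhs => rw [← hVfixY v hv, map_conj_map_conj, inv_mul_cancel_right]
      rw [← map_conj_map_conj, h2, map_conj_map_conj, inv_mul_cancel, map_conj_one]
    obtain ⟨u, hu, ε, hε, e⟩ := hstab _ (mul_mem (inv_mem hl) hvl)
      ((Subgroup.mem_normalizer_iff.1 (map_conj_eq_iff.1 he) c).1 hcY)
    exact ⟨u, hu, ε, hε, by rw [← e]; group⟩
  have hW : ∀ u ∈ qpart q Y, ⁅l, u⁆ ∈ Wt := by
    intro u hu
    refine hWt _ (hcomm l hl u hu) fun v hv => ?_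
    obtain ⟨u1, hu1, ε, hε, e⟩ := hact v hv
    have hvu : v * u * v⁻¹ = u :=
      mul_inv_eq_iff_eq_mul.2 (hVY hv u (qpart_le q Y hu)).symm
    have hεu : ε * u * ε⁻¹ = u :=
      mul_inv_eq_iff_eq_mul.2 (hε.2 u (hYT (qpart_le q Y hu))).symm
    have hu1u : u1 * u * u1⁻¹ = u := mul_inv_eq_iff_eq_mul.2 (hUab u1 hu1 u hu).eq
    refine mul_inv_eq_iff_eq_mul.1 ?_
    calc v * ⁅l, u⁆ * v⁻¹
        = (v * l * v⁻¹) * (v * u * v⁻¹) * (v * l * v⁻¹)⁻¹ * (v * u * v⁻¹)⁻¹ := by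
          rw [commutatorElement_def]; group
      _ = l * (u1 * (ε * u * ε⁻¹) * u1⁻¹) * l⁻¹ * u⁻¹ := by rw [hvu, e]; group
      _ = ⁅l, u⁆ := by rw [hεu, hu1u, commutatorElement_def]
  set M := qpart q Y ⊔ Wt ⊔ V
  have hUM : qpart q Y ≤ M := le_sup_left.trans le_sup_left
  have hWM : Wt ≤ M := le_sup_right.trans le_sup_left
  have hlu : ∀ u ∈ qpart q Y, l * u * l⁻¹ ∈ M := fun u hu => by
    rw [show l * u * l⁻¹ = ⁅l, u⁆ * u by rw [commutatorElement_def]; group]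
    exact mul_mem (hWM (hW u hu)) (hUM hu)
  have hUc : c ∈ Subgroup.normalizer (qpart q Y : Set G) := (h.qpart_spec hY hc hcY).2.2.2 hcY
  refine ⟨l, hl, fun hlc => hlY ?_, mem_normalizer_of_le ?_, fun u hu => hcomm l hl u hu⟩
  · obtain ⟨u, hu, ε, hε, rfl⟩ := hstab l hl hlc
    exact hnorm u hu ε hε
  refine Subgroup.map_le_iff_le_comap.2 (sup_le (sup_le ?_ ?_) ?_)
  · intro u hu
    simp only [Subgroup.mem_comap, MulEquiv.coe_toMonoidHom, MulAut.conj_apply]
    have h1 : l⁻¹ * u * l = ⁅l, u⁆⁻¹ * u := by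
      have h2 := hcent _ (hcomm l hl u hu) l⁻¹ (inv_mem hlT)
      calc l⁻¹ * u * l = ((l⁻¹ * ⁅l, u⁆ * l⁻¹⁻¹))⁻¹ * u := by rw [commutatorElement_def]; group
        _ = ⁅l, u⁆⁻¹ * u := by rw [h2]
    have h3 : l * c * ⁅l, u⁆⁻¹ * (l * c)⁻¹ = ⁅l, u⁆⁻¹ :=
      hcent _ (inv_mem (hcomm l hl u hu)) _ (mul_mem hlT hcT)
    rw [show l * c * l⁻¹ * u * (l * c * l⁻¹)⁻¹ = l * c * (l⁻¹ * u * l) * (c⁻¹ * l⁻¹) by group, h1,
      show l * c * (⁅l, u⁆⁻¹ * u) * (c⁻¹ * l⁻¹) =
        (l * c * ⁅l, u⁆⁻¹ * (l * c)⁻¹) * (l * (c * u * c⁻¹) * l⁻¹) by group, h3]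
    exact mul_mem (inv_mem (hWM (hW u hu))) (hlu _ ((Subgroup.mem_normalizer_iff.1 hUc u).1 hu))
  · intro w hw
    simp only [Subgroup.mem_comap, MulEquiv.coe_toMonoidHom, MulAut.conj_apply]
    rw [hcent w (hWtE hw) _ hb]
    exact hWM hw
  · intro v hv
    simp only [Subgroup.mem_comap, MulEquiv.coe_toMonoidHom, MulAut.conj_apply]
    obtain ⟨u, hu, ε, hε, e⟩ := hact v⁻¹ (inv_mem hv)
    rw [inv_inv] at e
    have hvc : v⁻¹ * c * v = c := by
      have := hVY hv c hcY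
      rw [mul_assoc, this, inv_mul_cancel_left]
    have hεc : ε * c * ε⁻¹ = c := mul_inv_eq_iff_eq_mul.2 (hε.2 c hcT).symm
    have hu' : u * c * u⁻¹ * c⁻¹ ∈ qpart q Y := h.conj_comm_mem hY hc hcY hu hcY
    have key : v⁻¹ * (l * c * l⁻¹) * v = l * (u * c * u⁻¹ * c⁻¹) * l⁻¹ * (l * c * l⁻¹) := by
      calc v⁻¹ * (l * c * l⁻¹) * v = (v⁻¹ * l * v) * (v⁻¹ * c * v) * (v⁻¹ * l * v)⁻¹ := by group
        _ = l * (u * (ε * c * ε⁻¹) * u⁻¹) * l⁻¹ := by rw [hvc, e]; group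
        _ = _ := by rw [hεc]; group
    rw [show l * c * l⁻¹ * v * (l * c * l⁻¹)⁻¹ =
      v * ((v⁻¹ * (l * c * l⁻¹) * v) * (l * c * l⁻¹)⁻¹) by group, key, mul_inv_cancel_right]
    exact mul_mem ((le_sup_right : V ≤ M) hv) (hlu _ hu')

/-- The concluding step of the pencil argument. -/
theorem Min.finish {X T Y₀ Y M : Subgroup G} (hX : IsBlock q a X) (hM : OddSys a M)
    (hY₀ : OddSys a Y₀) (hY₀M : Y₀ ≤ M) (hY₀Y : Y₀ ≤ Y) (hYX : Y ≤ X)
    (hc : IsConj a c) (hcY₀ : c ∈ Y₀) (hY : ∀ b, IsConj a b → b ∈ X → b ∈ T → b ∈ Y)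
    (hΩ : mclos a (Subgroup.normalizer (qpart q Y₀ : Set G)) ≤ T)
    {l b : G} (hl : l ∈ qpart q X) (hlY : l * c * l⁻¹ ∉ Y) (hlM : l * c * l⁻¹ ∈ M)
    (hlE : ∀ u ∈ qpart q Y, ⁅l, u⁆ ∈ ecore q X) (hb : IsConj a b) (hbT : b ∈ T) (hbY : b ∉ Y)
    (hbM : b ∈ M) : False := by
  have h := m.toHyp
  have hcM := hY₀M hcY₀
  have hcX := hYX (hY₀Y hcY₀)
  have hlX := qpart_le q X hl
  have hb2 : IsConj a (l * c * l⁻¹) := isConj_conj hc l
  by_cases h0 : ∀ u ∈ qpart q Y₀, ⁅l, u⁆ = 1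
  · refine hlY (hY _ hb2 (mul_mem (mul_mem hlX hcX) (inv_mem hlX)) (hΩ (mem_mclos hb2 ?_)))
    have hlC : l ∈ Subgroup.normalizer (qpart q Y₀ : Set G) := mem_normalizer_of_le (by
      rintro _ ⟨u, hu, rfl⟩
      have : l * u * l⁻¹ = u :=
        mul_inv_eq_iff_eq_mul.2 (commutatorElement_eq_one_iff_commute.1 (h0 u hu)).eq
      simpa [this] using hu)
    exact mul_mem (mul_mem hlC ((h.qpart_spec hY₀ hc hcY₀).2.2.2 hcY₀)) (inv_mem hlC)
  push Not at h0
  obtain ⟨u, hu, hz1⟩ := h0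
  have hP := h.oddSys_pair hb2 hc
  have hcP : c ∈ Subgroup.closure ({l * c * l⁻¹, c} : Set G) :=
    Subgroup.subset_closure (Or.inr rfl)
  have hPX : Subgroup.closure ({l * c * l⁻¹, c} : Set G) ≤ X := by
    rw [Subgroup.closure_le]
    rintro x (rfl | rfl)
    · exact mul_mem (mul_mem hlX hcX) (inv_mem hlX)
    · exact hcX
  have hPM : Subgroup.closure ({l * c * l⁻¹, c} : Set G) ≤ M := by
    rw [Subgroup.closure_le]
    rintro x (rfl | rfl)
    · exact hlM
    · exact hcM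
  obtain ⟨k, hk, y, hy, e⟩ := h.member hP hc hcP hb2 (Subgroup.subset_closure (Or.inl rfl))
  have hkX := qpart_mono hPX hk
  have hε : k⁻¹ * l ∈ ecore q X := h.stab hX.1 hc hcX (mul_mem (inv_mem hkX) hl) (by
    rwa [show k⁻¹ * l * c * (k⁻¹ * l)⁻¹ = k⁻¹ * (l * c * l⁻¹) * k by group, e,
      show k⁻¹ * (k * y * k⁻¹) * k = y by group])
  have hzk : ⁅l, u⁆ = ⁅k, u⁆ := by
    have hεu := hε.2 u (hYX (hY₀Y (qpart_le q Y₀ hu)))
    calc ⁅l, u⁆ = k * ((k⁻¹ * l) * u * (k⁻¹ * l)⁻¹) * k⁻¹ * u⁻¹ := by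
          rw [commutatorElement_def]; group
      _ = ⁅k, u⁆ := by rw [← hεu, commutatorElement_def]; group
  have huM := qpart_mono hY₀M hu
  have hzM : ⁅l, u⁆ ∈ qpart q M := by
    rw [hzk, commutatorElement_def]
    have hkM := qpart_mono hPM hk
    exact mul_mem (mul_mem (mul_mem hkM huM) (inv_mem hkM)) (inv_mem huM)
  have hzX := hlE u (qpart_mono hY₀Y hu)
  have hzE : ⁅l, u⁆ ∈ ecore q M :=
    (h.qpart_spec hM hc hcM).2.2.1 _ hzM (h.ecore_commute hcX hzX)
  refine hbY (hY b hb ?_ hbT)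
  rw [← m.blk_eq hX hc hcX hzX hz1]
  exact m.le_blk hM hzE hbM

/-- A block and another subgroup sharing two conjugates. -/
theorem Min.pencil (hs : Special q a) {X T Y₀ : Subgroup G} (hX : IsBlock q a X)
    (hT : OddSys a T) (hY₀ : OddSys a Y₀) (hY₀T : Y₀ ≤ T) (hY₀X : Y₀ ≤ X)
    (hc : IsConj a c) (hcY : c ∈ Y₀) (hU : qpart q Y₀ ≠ ⊥)
    {e : G} (he : e ∈ ecore q X) (he1 : e ≠ 1) (heT : e ∈ Subgroup.normalizer (T : Set G))
    (hE : IsBlock q a T ∨ (ecore q T = ⊥ ∧ ecore q X ≤ Subgroup.normalizer (T : Set G)))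
    (hΩ : mclos a (Subgroup.normalizer (qpart q Y₀ : Set G)) ≤ T ∨
      (IsBlock q a T ∧ mclos a (Subgroup.normalizer (qpart q Y₀ : Set G)) ≤ X)) :
    T ≤ X := by
  by_contra hTX
  haveI : Fact q.Prime := ⟨m.hq⟩
  have h := m.toHyp
  have hcT := hY₀T hcY
  have hcX := hY₀X hcY
  have hXT : ¬ X ≤ T := fun hle => by
    have heT' := m.ecore_mono hT hle hc hcX he
    rcases hE with hb | ⟨hbot, -⟩
    · exact hTX (by rw [← m.blk_eq hb hc hcT heT' he1, m.blk_eq hX hc hcX he he1])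
    · exact he1 (Subgroup.mem_bot.1 (hbot ▸ heT'))
  set Y := mclos a (T ⊓ X) with hYdef
  have hYT : Y ≤ T := (mclos_le a _).trans inf_le_left
  have hYX : Y ≤ X := (mclos_le a _).trans inf_le_right
  have hY : OddSys a Y := ⟨mclos_mclos a _, hT.odd.of_dvd_nat (Subgroup.card_dvd_of_le hYT)⟩
  have hY₀Y : Y₀ ≤ Y := le_of_members hY₀.closed fun b hb hbY =>
    mem_mclos hb ⟨hY₀T hbY, hY₀X hbY⟩
  have hcY' := hY₀Y hcY
  have hEY : ∀ z ∈ ecore q Y, z = 1 := by
    intro z hz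
    by_contra hz1
    have hzT := m.ecore_mono hT hYT hc hcY' hz
    rcases hE with hb | ⟨hbot, -⟩
    · exact hTX (by
        rw [← m.blk_eq hb hc hcT hzT hz1,
          m.blk_eq hX hc hcX (m.ecore_mono hX.1 hYX hc hcY' hz) hz1])
    · exact hz1 (Subgroup.mem_bot.1 (hbot ▸ hzT))
  have hUab : ∀ u ∈ qpart q Y, ∀ u' ∈ qpart q Y, Commute u u' := fun u hu u' hu' =>
    commutatorElement_eq_one_iff_commute.1 (hEY _ (Subgroup.mem_inf.2 ⟨by
      rw [commutatorElement_def]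
      exact mul_mem (mul_mem (mul_mem hu hu') (inv_mem hu)) (inv_mem hu'), hs Y hY u hu u' hu'⟩))
  set W' := ecore q X ⊓ Subgroup.normalizer (T : Set G) with hW'def
  set W := ecore q T ⊓ Subgroup.centralizer (W' : Set G) with hWdef
  have hEXq : IsPGroup q (ecore q X) :=
    (h.qpart_spec hX.1 hc hcX).1.to_le inf_le_left
  have hETq : IsPGroup q (ecore q T) := (h.qpart_spec hT hc hcT).1.to_le inf_le_left
  have hW'q : IsPGroup q W' := hEXq.to_le inf_le_left
  have hWq : IsPGroup q W := hETq.to_le inf_le_left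
  have hW'Y : W' ≤ Subgroup.centralizer (Y : Set G) :=
    (inf_le_left.trans inf_le_right).trans (Subgroup.centralizer_le hYX)
  have hWY : W ≤ Subgroup.centralizer (Y : Set G) :=
    (inf_le_left.trans inf_le_right).trans (Subgroup.centralizer_le hYT)
  have hWX : W ≤ Subgroup.normalizer (X : Set G) := fun w hw =>
    m.normalizes hX hc hcX he he1 (hw.2 e ⟨he, heT⟩).symm
  -- the block of `T` if it has one gives a nontrivial element of `W`
  have htarget : ∀ x ∈ ecore q X, (∀ w ∈ W, Commute w x) → x ∈ W' := by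
    intro x hx hxW
    refine ⟨hx, ?_⟩
    rcases hE with hb | ⟨-, hn⟩
    · obtain ⟨-, z, hz, hz1, -⟩ := id hb
      obtain ⟨w, hw, hw1⟩ : ∃ w ∈ W, w ≠ 1 := by
        have hE1 : Nontrivial (ecore q T) := ⟨⟨⟨z, hz⟩, 1, fun h => hz1 (congrArg Subtype.val h)⟩⟩
        letI : MulAction W' (ecore q T) :=
          { smul := fun v y => ⟨v * y * (v : G)⁻¹, ecore_conj_mem v.2.2 y.2⟩
            one_smul := fun y => Subtype.ext (by show (1 : G) * y * (1 : G)⁻¹ = _; group)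
            mul_smul := fun v v' y => Subtype.ext (by
              show ((v * v' : W') : G) * y * ((v * v' : W') : G)⁻¹ =
                (v : G) * ((v' : G) * y * (v' : G)⁻¹) * (v : G)⁻¹
              push_cast; group) }
        obtain ⟨k, hk⟩ := IsPGroup.iff_card.1 hETq
        have hk0 : k ≠ 0 := fun h0 => by
          rw [h0, pow_zero, Nat.card_eq_one_iff_unique] at hk
          exact not_subsingleton (ecore q T) hk.1
        obtain ⟨y, hy, hne⟩ := hW'q.exists_fixed_point_of_prime_dvd_card_of_fixed_point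
          (ecore q T) (by rw [hk]; exact dvd_pow_self q hk0) (a := 1)
          (fun v => Subtype.ext (by show (v : G) * (1 : G) * (v : G)⁻¹ = 1; group))
        refine ⟨y, ⟨y.2, fun v hv => ?_⟩, fun h1 => hne (Subtype.ext h1.symm)⟩
        exact mul_inv_eq_iff_eq_mul.1 (congrArg Subtype.val (hy ⟨v, hv⟩))
      exact m.normalizes hb hc hcT hw.1 hw1 (hxW w hw).symm
    · exact hn hx
  obtain ⟨l, hl, hlY, hlN, hlE⟩ := m.side hs hT hY hYT hc hcY'
    (fun hle => hTX (hle.trans hYX)) hUab W' W hW'q inf_le_right hW'Y inf_le_left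
    (fun x hx hv => ⟨hx, fun v hv' => (hv v hv').eq⟩)
  obtain ⟨l', hl', hlY', hlN', hlE'⟩ := m.side hs hX.1 hY hYX hc hcY'
    (fun hle => hXT (hle.trans hYT)) hUab W W' hWq hWX hWY inf_le_left htarget
  rw [sup_right_comm] at hlN'
  set N := qpart q Y ⊔ W ⊔ W' with hNdef
  have hUq := (h.qpart_spec hY hc hcY').1
  have hUW : IsPGroup q (qpart q Y ⊔ W : Subgroup G) := hUq.to_sup_of_normal_left' hWq
    (fun w hw => Subgroup.centralizer_le_normalizer _
      (Subgroup.centralizer_le (qpart_le q Y) (hWY hw)))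
  have hNq : IsPGroup q N := hUW.to_sup_of_normal_left' hW'q (fun v hv => by
    refine mem_normalizer_of_le (Subgroup.map_le_iff_le_comap.2 (sup_le ?_ ?_))
    · intro u hu
      have : v * u * v⁻¹ = u :=
        mul_inv_eq_iff_eq_mul.2 (hW'Y hv u (qpart_le q Y hu)).symm
      simpa [Subgroup.mem_comap, this] using (le_sup_left : qpart q Y ≤ _ ⊔ W) hu
    · intro w hw
      have : v * w * v⁻¹ = w := mul_inv_eq_iff_eq_mul.2 (hw.2 v hv)
      simpa [Subgroup.mem_comap, this] using (le_sup_right : W ≤ qpart q Y ⊔ W) hw)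
  have hUle : qpart q Y₀ ≤ qpart q Y := qpart_mono hY₀Y
  have hUne : qpart q Y ≠ ⊥ := fun h0 => hU (le_bot_iff.1 (h0 ▸ hUle))
  have hUN : qpart q Y ≤ N := le_sup_left.trans le_sup_left
  have hNodd : Odd (Nat.card N) := by
    obtain ⟨k, hk⟩ := IsPGroup.iff_card.1 hNq
    obtain ⟨j, hj⟩ := IsPGroup.iff_card.1 hUq
    have hj0 : j ≠ 0 := fun h0 => hUne (Subgroup.card_eq_one.1 (by rw [hj, h0, pow_zero]))
    have := h.odd_qpart hY
    rw [hj, Nat.odd_pow_iff hj0] at this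
    rw [hk]
    exact this.pow
  set M := mclos a (Subgroup.normalizer (N : Set G))
  have hM : OddSys a M :=
    m.oddSys_normalizer (fun h0 => hUne (le_bot_iff.1 (h0 ▸ hUN))) hNodd
  have hcN : c ∈ Subgroup.normalizer (N : Set G) := by
    refine mem_normalizer_of_le (Subgroup.map_le_iff_le_comap.2 (sup_le (sup_le ?_ ?_) ?_))
    · intro u hu
      simpa [Subgroup.mem_comap] using
        hUN ((Subgroup.mem_normalizer_iff.1 ((h.qpart_spec hY hc hcY').2.2.2 hcY') u).1 hu)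
    · intro w hw
      have : c * w * c⁻¹ = w := mul_inv_eq_iff_eq_mul.2 (hWY hw c hcY')
      simpa [Subgroup.mem_comap, this] using
        (le_sup_right.trans le_sup_left : W ≤ N) hw
    · intro w hw
      have : c * w * c⁻¹ = w := mul_inv_eq_iff_eq_mul.2 (hW'Y hw c hcY')
      simpa [Subgroup.mem_comap, this] using (le_sup_right : W' ≤ N) hw
  have hY₀M : Y₀ ≤ M := le_of_members hY₀.closed fun b hb hbY => by
    obtain ⟨k, hk, y, hy, rfl⟩ := h.member hY₀ hc hcY hb hbY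
    have hkN := Subgroup.le_normalizer (hUN (hUle hk))
    exact mem_mclos hb (mul_mem (mul_mem hkN (Subgroup.zpowers_le.2 hcN hy)) (inv_mem hkN))
  have hb := isConj_conj hc l
  have hb' := isConj_conj hc l'
  have hbM : l * c * l⁻¹ ∈ M := mem_mclos hb hlN
  have hbM' : l' * c * l'⁻¹ ∈ M := mem_mclos hb' hlN'
  rcases hΩ with hT' | ⟨hbl, hX'⟩
  · exact m.finish hX hM hY₀ hY₀M hY₀Y hYX hc hcY
      (fun b hb1 hbX hbT => mem_mclos hb1 ⟨hbT, hbX⟩) hT' hl' hlY' hbM' hlE' hb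
      (mul_mem (mul_mem (qpart_le q T hl) hcT) (inv_mem (qpart_le q T hl))) hlY hbM
  · exact m.finish hbl hM hY₀ hY₀M hY₀Y hYT hc hcY
      (fun b hb1 hbT hbX => mem_mclos hb1 ⟨hbT, hbX⟩) hX' hl hlY hbM hlE hb'
      (mul_mem (mul_mem (qpart_le q X hl') hcX) (inv_mem (qpart_le q X hl'))) hlY' hbM'

end CfsgLib.PairGen
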