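import Cfsg.Agent.PairGen.Pencil

/-!
# Reflections: the blocks over the fixed points of an involution
-/

set_option autoImplicit false
set_option linter.unusedSectionVars false
set_option linter.style.haveILetI false

namespace CfsgLib.PairGen

open scoped commutatorElement

variable {G : Type*} [Group G] [Finite G] {p q : ℕ} {a c : G}

/-- Conjugation by an element carrying the centralizer of `t` to itself. -/
theorem blk_mem_normalizer {t n : G} (hn : Commute n t) :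
    n ∈ Subgroup.normalizer (blk a t : Set G) :=
  mclos_conj_mem (mem_normalizer_centralizer hn)

theorem mem_blk {z b : G} (hb : IsConj a b) (h : Commute b z) : b ∈ blk a z :=
  mem_mclos hb (Subgroup.mem_centralizer_singleton_iff.2 h.eq)

theorem commute_of_mem_blk {z x : G} (h : x ∈ blk a z) : Commute x z :=
  Subgroup.mem_centralizer_singleton_iff.1 (mclos_le a _ h)

/-- The midpoint of a conjugate and its image under an involution. -/
theorem Hyp.mid (h : Hyp p q a) {t b : G} (ht : orderOf t = 2) (hc : IsConj a c)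
    (htc : Commute t c) (hb : IsConj a b) :
    ∃ m r, IsConj a m ∧ Commute t m ∧ m ∈ Subgroup.closure ({b, t * b * t⁻¹} : Set G) ∧
      r ∈ qpart q (Subgroup.closure ({b, t * b * t⁻¹} : Set G)) ∧ t * r * t⁻¹ = r⁻¹ ∧
      b = r * m * r⁻¹ ∧ t * b * t⁻¹ = r⁻¹ * m * r := by
  obtain ⟨hF, hN⟩ := h.pair_normalizer hb ht
  set F := Subgroup.closure ({b, t * b * t⁻¹} : Set G)
  obtain ⟨m, hm, htm, hmF⟩ := h.exists_center ht hc htc hb
  obtain ⟨k, hk, y, hy, e⟩ := h.member hF hm hmF hb (Subgroup.subset_closure (Or.inl rfl))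
  obtain ⟨f, hf, r, hr, htf, htr, hkfr⟩ :=
    exists_split ht (h.odd_qpart hF) (qpart_conj_mem hN) hk
  have hty : Commute t y := by
    obtain ⟨i, rfl⟩ := hy
    exact htm.zpow_right i
  have hy1 : y ≠ 1 := fun h1 => h.ne_one hb (by rw [e, h1, mul_one, mul_inv_cancel])
  have hym : IsConj a y := by
    have := isConj_conj hb k⁻¹
    rwa [e, show k⁻¹ * (k * y * k⁻¹) * k⁻¹⁻¹ = y by group] at this
  have hfF := qpart_le q _ hf
  have hr' : t * (f * r⁻¹ * f⁻¹) * t⁻¹ = (f * r⁻¹ * f⁻¹)⁻¹ := by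
    have htf' : t * f * t⁻¹ = f := mul_inv_eq_iff_eq_mul.2 htf.eq
    calc t * (f * r⁻¹ * f⁻¹) * t⁻¹ = (t * f * t⁻¹) * (t * r * t⁻¹)⁻¹ * (t * f * t⁻¹)⁻¹ := by group
      _ = f * r * f⁻¹ := by rw [htf', htr, inv_inv]
      _ = _ := by group
  refine ⟨f * y * f⁻¹, f * r⁻¹ * f⁻¹, isConj_conj hym f,
    (htf.mul_right hty).mul_right htf.inv_right,
    mul_mem (mul_mem hfF (Subgroup.zpowers_le.2 hmF hy)) (inv_mem hfF),
    mul_mem (mul_mem hf (inv_mem hr)) (inv_mem hf), hr', ?_, ?_⟩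
  · rw [e, hkfr]; group
  · have htm' : t * (f * y * f⁻¹) * t⁻¹ = f * y * f⁻¹ :=
      mul_inv_eq_iff_eq_mul.2 ((htf.mul_right hty).mul_right htf.inv_right).eq
    calc t * b * t⁻¹ = (t * (f * r⁻¹ * f⁻¹) * t⁻¹) * (t * (f * y * f⁻¹) * t⁻¹) *
          (t * (f * r⁻¹ * f⁻¹) * t⁻¹)⁻¹ := by rw [e, hkfr]; group
      _ = _ := by rw [htm', hr']; group

/-- The image under an involution is determined by the pair of `b` and the midpoint. -/
theorem Hyp.mirror (h : Hyp p q a) {F : Subgroup G} (hF : OddSys a F) {b m r : G}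
    (hb : IsConj a b) (hm : IsConj a m) (hmF : m ∈ F) (hr : r ∈ qpart q F)
    (e : b = r * m * r⁻¹) :
    ∀ {k y : G}, k ∈ qpart q F → y ∈ Subgroup.zpowers m → b = k * y * k⁻¹ →
      r⁻¹ * m * r = k⁻¹ * y * k := by
  intro k y hk hy hky
  have h1 : k⁻¹ * r * m * (k⁻¹ * r)⁻¹ = y := by
    rw [show k⁻¹ * r * m * (k⁻¹ * r)⁻¹ = k⁻¹ * (r * m * r⁻¹) * k by group, ← e, hky]; group
  have hε := h.stab hF hm hmF (mul_mem (inv_mem hk) hr) (h1.symm ▸ hy)
  have hym : y = m := by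
    rw [← h1]
    exact mul_inv_eq_iff_eq_mul.2 (hε.2 m hmF).symm
  rw [hym]
  have h2 := hε.2 (k⁻¹ * m * k)
    (mul_mem (mul_mem (inv_mem (qpart_le q F hk)) hmF) (qpart_le q F hk))
  calc r⁻¹ * m * r = (k⁻¹ * r)⁻¹ * ((k⁻¹ * m * k) * (k⁻¹ * r)) := by group
    _ = k⁻¹ * m * k := by rw [h2]; group

variable (m : Min p q a)

include m

/-- An involution whose fixed conjugates lie in `X` normalizes `X`. -/
theorem Min.reflect {X : Subgroup G} (hX : OddSys a X) {t : G} (ht : orderOf t = 2)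
    (hc : IsConj a c) (htc : Commute t c) (hfix : ∀ b, IsConj a b → Commute t b → b ∈ X) :
    t ∈ Subgroup.normalizer (X : Set G) := by
  have h := m.toHyp
  refine mem_normalizer_of_le (Subgroup.map_le_iff_le_comap.2
    (le_of_members hX.closed fun b hb hbX => ?_))
  simp only [Subgroup.mem_comap, MulEquiv.coe_toMonoidHom, MulAut.conj_apply]
  obtain ⟨d, r, hd, htd, hdF, hr, -, e, e'⟩ := h.mid ht hc htc hb
  have hdX := hfix d hd htd
  have hF := (h.pair_normalizer hb ht).1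
  have hP := h.oddSys_pair hb hd
  obtain ⟨k, hk, y, hy, hky⟩ :=
    h.member hP hd (Subgroup.subset_closure (Or.inr rfl)) hb (Subgroup.subset_closure (Or.inl rfl))
  have hPF : Subgroup.closure ({b, d} : Set G) ≤ Subgroup.closure ({b, t * b * t⁻¹} : Set G) := by
    rw [Subgroup.closure_le]
    rintro x (rfl | rfl)
    · exact Subgroup.subset_closure (Or.inl rfl)
    · exact hdF
  have hPX : Subgroup.closure ({b, d} : Set G) ≤ X := by
    rw [Subgroup.closure_le]
    rintro x (rfl | rfl) <;> assumption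
  rw [e', h.mirror hF hb hd hdF hr e (qpart_mono hPF hk) hy hky]
  have hkX := hPX (qpart_le q _ hk)
  exact mul_mem (mul_mem (inv_mem hkX) (Subgroup.zpowers_le.2 hdX hy)) hkX

/-- The conjugates centralizing `t` lie in every block with an element centralizing `t`. -/
theorem Min.fix_le (hs : Special q a) {X : Subgroup G} (hX : IsBlock q a X) {t : G} (ht1 : t ≠ 1)
    (hc : IsConj a c) (htc : Commute t c) (hcX : c ∈ X) {e : G} (he : e ∈ ecore q X)
    (he1 : e ≠ 1) (het : Commute e t) {b₀ : G} (hb₀ : IsConj a b₀) (htb₀ : Commute t b₀)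
    (hne : b₀ ∉ Subgroup.zpowers c) : blk a t ≤ X := by
  have h := m.toHyp
  haveI : Fact q.Prime := ⟨m.hq⟩
  set D := blk a t
  have hD : OddSys a D := m.oddSys_centralizer ht1
  have hcD : c ∈ D := mem_blk hc htc.symm
  have heD : e ∈ Subgroup.normalizer (D : Set G) := blk_mem_normalizer het
  have hec : Commute e c := h.ecore_commute hcX he
  have hDc : ¬ D ≤ Subgroup.zpowers c := fun hle => hne (hle (mem_blk hb₀ htb₀.symm))
  -- a second conjugate in `D` fixed by `e`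
  obtain ⟨b, hb, hbD, hbne, hbX⟩ : ∃ b, IsConj a b ∧ b ∈ D ∧ b ∉ Subgroup.zpowers c ∧ b ∈ X := by
    obtain ⟨n, hn, -⟩ := h.ncard_memSet hD hc hcD
    have hcmem : Subgroup.zpowers c ∈ memSet a D := ⟨c, hc, hcD, rfl⟩
    have hq : q ∣ (memSet a D).ncard := by
      rw [hn]
      rcases n with _ | n
      · obtain ⟨Z, hZ⟩ := Set.ncard_eq_one.1 (hn.trans (pow_zero q))
        refine absurd (le_of_members hD.closed fun x hx hxD => ?_) hDc
        have h1 : Subgroup.zpowers x ∈ ({Z} : Set _) := hZ ▸ ⟨x, hx, hxD, rfl⟩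
        have h2 : Subgroup.zpowers c ∈ ({Z} : Set _) := hZ ▸ hcmem
        rw [h2.trans h1.symm]; exact Subgroup.mem_zpowers x
      · exact dvd_pow_self q (Nat.succ_ne_zero n)
    have heq : IsPGroup q (Subgroup.zpowers e) :=
      (h.qpart_spec hX.1 hc hcX).1.to_le (Subgroup.zpowers_le.2 he.1)
    obtain ⟨_, ⟨b, hb, hbD, rfl⟩, hbne, hbe⟩ := exists_conj_fixed_ne (Subgroup.zpowers e) heq
      (memSet a D) (fun g hg _ hQ => memSet_map (Subgroup.zpowers_le.2 heD hg) hQ) hq hcmem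
      (fun g hg => by
        obtain ⟨i, rfl⟩ := hg
        show Subgroup.map (MulAut.conj (e ^ i)).toMonoidHom (Subgroup.zpowers c) = _
        rw [zpowers_map_conj, mul_inv_eq_iff_eq_mul.2 (hec.zpow_left i).eq])
    refine ⟨b, hb, hbD, fun hbc => hbne (h.zpowers_eq hc hbc (h.ne_one hb)), ?_⟩
    rw [← m.blk_eq hX hc hcX he he1]
    refine mem_blk hb (h.norm_cent hb hc hec ?_).symm
    have := hbe e (Subgroup.mem_zpowers e)
    rw [zpowers_map_conj] at this
    rw [← this]; exact Subgroup.mem_zpowers _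
  set Y₀ := mclos a (D ⊓ X)
  have hY₀D : Y₀ ≤ D := (mclos_le a _).trans inf_le_left
  have hY₀X : Y₀ ≤ X := (mclos_le a _).trans inf_le_right
  have hY₀ : OddSys a Y₀ := ⟨mclos_mclos a _, hD.odd.of_dvd_nat (Subgroup.card_dvd_of_le hY₀D)⟩
  have hcY : c ∈ Y₀ := mem_mclos hc ⟨hcD, hcX⟩
  have hU : qpart q Y₀ ≠ ⊥ := fun h0 => by
    obtain ⟨k, hk, y, hy, e'⟩ := h.member hY₀ hc hcY hb (mem_mclos hb ⟨hbD, hbX⟩)
    rw [h0, Subgroup.mem_bot] at hk
    exact hbne (by rw [e', hk]; simpa using hy)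
  by_cases hEY : ∃ z ∈ ecore q Y₀, z ≠ 1
  · obtain ⟨z, hz, hz1⟩ := hEY
    rw [← m.blk_eq hX hc hcX (m.ecore_mono hX.1 hY₀X hc hcY hz) hz1]
    exact m.le_blk hD (m.ecore_mono hD hY₀D hc hcY hz)
  set Ω := mclos a (Subgroup.normalizer (qpart q Y₀ : Set G))
  have hΩ : OddSys a Ω := m.oddSys_normalizer hU (h.odd_qpart hY₀)
  have hYΩ : Y₀ ≤ Ω := le_of_members hY₀.closed fun x hx hxY =>
    mem_mclos hx ((h.qpart_spec hY₀ hc hcY).2.2.2 hxY)
  have hEΩ : ecore q X ≤ Subgroup.normalizer (Ω : Set G) := fun x hx =>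
    mclos_conj_mem (Subgroup.le_normalizer (Subgroup.centralizer_le_normalizer _
      (Subgroup.centralizer_le ((qpart_le q Y₀).trans hY₀X) hx.2)))
  have hΩX : Ω ≤ X := by
    by_cases hE : ecore q Ω = ⊥
    · exact m.pencil hs hX hΩ hY₀ hYΩ hY₀X hc hcY hU he he1 (hEΩ he) (Or.inr ⟨hE, hEΩ⟩)
        (Or.inl le_rfl)
    · obtain ⟨z, hz, hz1'⟩ := (Subgroup.bot_or_exists_ne_one _).resolve_left hE
      have hB := m.isBlock_blk hΩ hc (hYΩ hcY) hz hz1'
      have hΩB := m.le_blk hΩ hz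
      exact hΩB.trans (m.pencil hs hX hB.1 hY₀ (hYΩ.trans hΩB) hY₀X hc hcY hU he he1
        (m.normalizes_blk hΩ hc (hYΩ hcY) hz hz1' (hEΩ he)) (Or.inl hB) (Or.inl hΩB))
  by_cases hE : ecore q D = ⊥
  · refine (le_of_members hD.closed fun x hx hxD => mem_mclos hx ?_).trans hΩX
    obtain ⟨k, hk, y, hy, rfl⟩ := h.member hD hc hcD hx hxD
    have hkN : k ∈ Subgroup.normalizer (qpart q Y₀ : Set G) :=
      mem_normalizer_of_le (by
        rintro _ ⟨u, hu, rfl⟩
        have huD := qpart_mono hY₀D hu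
        have h1 : ⁅k, u⁆ = 1 := Subgroup.mem_bot.1 (hE ▸ Subgroup.mem_inf.2 ⟨by
          rw [commutatorElement_def]
          exact mul_mem (mul_mem (mul_mem hk huD) (inv_mem hk)) (inv_mem huD),
          hs D hD k hk u huD⟩)
        have : k * u * k⁻¹ = u :=
          mul_inv_eq_iff_eq_mul.2 (commutatorElement_eq_one_iff_commute.1 h1).eq
        simpa [this] using hu)
    exact mul_mem (mul_mem hkN (Subgroup.zpowers_le.2
      ((h.qpart_spec hY₀ hc hcY).2.2.2 hcY) hy)) (inv_mem hkN)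
  · obtain ⟨z, hz, hz1'⟩ := (Subgroup.bot_or_exists_ne_one _).resolve_left hE
    have hB := m.isBlock_blk hD hc hcD hz hz1'
    have hDB := m.le_blk hD hz
    exact hDB.trans (m.pencil hs hX hB.1 hY₀ (hY₀D.trans hDB) hY₀X hc hcY hU he he1
      (m.normalizes_blk hD hc hcD hz hz1' heD) (Or.inl hB) (Or.inr ⟨hB, hΩX⟩))

/-- Two blocks over the fixed conjugates of an involution. -/
theorem Min.block_le (hs : Special q a) {X X' : Subgroup G} (hX : IsBlock q a X)
    (hX' : IsBlock q a X') {t : G} (ht : orderOf t = 2) (hc : IsConj a c) (htc : Commute t c)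
    {e e' : G} (he : e ∈ ecore q X) (he1 : e ≠ 1) (het : Commute e t)
    (he' : e' ∈ ecore q X') (he1' : e' ≠ 1) (het' : Commute e' t)
    (hcX : c ∈ X) (hcX' : c ∈ X') {b₀ : G} (hb₀ : IsConj a b₀) (htb₀ : Commute t b₀)
    (hne : b₀ ∉ Subgroup.zpowers c) : X ≤ X' ∨ X' ≤ X := by
  have h := m.toHyp
  have ht1 : t ≠ 1 := fun h1 => by rw [h1, orderOf_one] at ht; omega
  have hDX := m.fix_le hs hX ht1 hc htc hcX he he1 het hb₀ htb₀ hne
  have hDX' := m.fix_le hs hX' ht1 hc htc hcX' he' he1' het' hb₀ htb₀ hne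
  set D := blk a t
  have hD : OddSys a D := m.oddSys_centralizer ht1
  have hcD : c ∈ D := mem_blk hc htc.symm
  by_cases hE : ∃ z ∈ ecore q D, z ≠ 1
  · obtain ⟨z, hz, hz1⟩ := hE
    rw [← m.blk_eq hX hc hcX (m.ecore_mono hX.1 hDX hc hcD hz) hz1,
      ← m.blk_eq hX' hc hcX' (m.ecore_mono hX'.1 hDX' hc hcD hz) hz1]
    exact Or.inl le_rfl
  have hU : qpart q D ≠ ⊥ := fun h0 => by
    obtain ⟨k, hk, y, hy, e⟩ := h.member hD hc hcD hb₀ (mem_blk hb₀ htb₀.symm)
    rw [h0, Subgroup.mem_bot] at hk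
    exact hne (by rw [e, hk]; simpa using hy)
  set Ω := mclos a (Subgroup.normalizer (qpart q D : Set G))
  have hDΩ : D ≤ Ω := le_of_members hD.closed fun x hx hxD =>
    mem_mclos hx ((h.qpart_spec hD hc hcD).2.2.2 hxD)
  have hΩ : OddSys a Ω := m.oddSys_normalizer hU (h.odd_qpart hD)
  have hΩle : ∀ {Z : Subgroup G}, IsBlock q a Z → c ∈ Z → D ≤ Z →
      ∀ {f : G}, f ∈ ecore q Z → f ≠ 1 → Ω ≤ Z := by
    intro Z hZ hcZ hDZ f hf hf1
    have hEΩ : ecore q Z ≤ Subgroup.normalizer (Ω : Set G) := fun x hx =>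
      mclos_conj_mem (Subgroup.le_normalizer (Subgroup.centralizer_le_normalizer _
        (Subgroup.centralizer_le ((qpart_le q D).trans hDZ) hx.2)))
    by_cases hEO : ecore q Ω = ⊥
    · exact m.pencil hs hZ hΩ hD hDΩ hDZ hc hcD hU hf hf1 (hEΩ hf) (Or.inr ⟨hEO, hEΩ⟩)
        (Or.inl le_rfl)
    · obtain ⟨z, hz, hz1'⟩ := (Subgroup.bot_or_exists_ne_one _).resolve_left hEO
      have hB := m.isBlock_blk hΩ hc (hDΩ hcD) hz hz1'
      have hΩB := m.le_blk hΩ hz
      exact hΩB.trans (m.pencil hs hZ hB.1 hD (hDΩ.trans hΩB) hDZ hc hcD hU hf hf1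
        (m.normalizes_blk hΩ hc (hDΩ hcD) hz hz1' (hEΩ hf)) (Or.inl hB) (Or.inl hΩB))
  have hfixX : ∀ b, IsConj a b → Commute t b → b ∈ X := fun b hb htb =>
    hDX (mem_blk hb htb.symm)
  have htX := m.reflect hX.1 ht hc htc hfixX
  by_cases hall : ∀ x ∈ ecore q X, Commute x t
  · left
    refine le_trans ?_ (hΩle hX' hcX' hDX' he' he1')
    refine le_of_members hX.1.closed fun b hb hbX => ?_
    obtain ⟨d, r, hd, htd, hdF, hr, htr, e₁, -⟩ := h.mid ht hc htc hb
    have hFX : Subgroup.closure ({b, t * b * t⁻¹} : Set G) ≤ X := by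
      rw [Subgroup.closure_le]
      rintro x (rfl | rfl)
      · exact hbX
      · exact (Subgroup.mem_normalizer_iff.1 htX b).1 hbX
    have hrX := qpart_mono hFX hr
    have hrN : r ∈ Subgroup.normalizer (qpart q D : Set G) := mem_normalizer_of_le (by
      rintro _ ⟨u, hu, rfl⟩
      have huX := qpart_mono hDX hu
      have hz : ⁅r, u⁆ ∈ ecore q X := Subgroup.mem_inf.2 ⟨by
        rw [commutatorElement_def]
        exact mul_mem (mul_mem (mul_mem hrX huX) (inv_mem hrX)) (inv_mem huX),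
        hs X hX.1 r hrX u huX⟩
      have htu : t * u * t⁻¹ = u :=
        mul_inv_eq_iff_eq_mul.2 (commute_of_mem_blk (qpart_le q D hu)).symm.eq
      have h1 : ⁅r, u⁆ = ⁅r, u⁆⁻¹ := by
        calc ⁅r, u⁆ = t * ⁅r, u⁆ * t⁻¹ := (mul_inv_eq_iff_eq_mul.2 (hall _ hz).symm.eq).symm
          _ = (t * r * t⁻¹) * (t * u * t⁻¹) * (t * r * t⁻¹)⁻¹ * (t * u * t⁻¹)⁻¹ := by
              rw [commutatorElement_def]; group
          _ = r⁻¹ * ⁅r, u⁆⁻¹ * r := by rw [htr, htu, commutatorElement_def]; group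
          _ = ⁅r, u⁆⁻¹ := by
              have := (inv_mem hz : ⁅r, u⁆⁻¹ ∈ ecore q X).2 r (qpart_le q X hrX)
              rw [mul_assoc, ← this, inv_mul_cancel_left]
      have h2 : ⁅r, u⁆ ^ 2 = 1 := by rw [sq]; exact mul_eq_one_iff_eq_inv.2 h1
      have h3 : ⁅r, u⁆ = 1 := by
        rw [← orderOf_eq_one_iff]
        exact Nat.eq_one_of_dvd_coprimes (Nat.coprime_two_left.2
          ((h.odd_qpart hX.1).of_dvd_nat (Subgroup.orderOf_dvd_natCard _ hz.1)))
          (orderOf_dvd_of_pow_eq_one h2) dvd_rfl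
      have : r * u * r⁻¹ = u :=
        mul_inv_eq_iff_eq_mul.2 (commutatorElement_eq_one_iff_commute.1 h3).eq
      simpa [this] using hu)
    refine mem_mclos hb ?_
    rw [e₁]
    exact mul_mem (mul_mem hrN ((h.qpart_spec hD hc hcD).2.2.2 (mem_blk hd htd.symm)))
      (inv_mem hrN)
  · right
    push Not at hall
    obtain ⟨x, hx, hxt⟩ := hall
    have hxD : x ∈ Subgroup.centralizer (D : Set G) := Subgroup.centralizer_le hDX hx.2
    have hfixX' : ∀ b, IsConj a b → Commute t b → b ∈ X' := fun b hb htb =>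
      hDX' (mem_blk hb htb.symm)
    have hs2 : orderOf (x * t * x⁻¹) = 2 := by
      rw [← ht]; simpa using orderOf_injective (MulAut.conj x).toMonoidHom (MulAut.conj x).injective t
    have htx : t * x * t⁻¹ ∈ ecore q X := ecore_conj_mem htX hx
    have hxc : Commute (x * t * x⁻¹) c := by
      have h1 := h.ecore_commute hcX hx
      exact (h1.mul_left htc).mul_left h1.inv_left
    have hsX' := m.reflect hX'.1 hs2 hc hxc (fun b hb hsb => by
      have hb' : Commute t (x⁻¹ * b * x) := by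
        have := hsb.map (MulAut.conj x⁻¹).toMonoidHom
        simpa [mul_assoc] using this
      have hb'' : IsConj a (x⁻¹ * b * x) := by simpa using isConj_conj hb x⁻¹
      have hbD : x⁻¹ * b * x ∈ D := mem_blk hb'' hb'.symm
      have h2 := hxD _ hbD
      have h3 : b = x⁻¹ * b * x := by
        calc b = x * (x⁻¹ * b * x) * x⁻¹ := by group
          _ = x⁻¹ * b * x := by rw [← h2, mul_inv_cancel_right]
      rw [h3]; exact hDX' hbD)
    have hwX' : x * t * x⁻¹ * t⁻¹ ∈ Subgroup.normalizer (X' : Set G) :=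
      mul_mem hsX' (inv_mem (m.reflect hX'.1 ht hc htc hfixX'))
    have hw : x * t * x⁻¹ * t⁻¹ ∈ ecore q X := by
      rw [show x * t * x⁻¹ * t⁻¹ = x * (t * x * t⁻¹)⁻¹ by group]
      exact mul_mem hx (inv_mem htx)
    have hw1 : x * t * x⁻¹ * t⁻¹ ≠ 1 := fun h1 =>
      hxt (mul_inv_eq_iff_eq_mul.1 (mul_inv_eq_one.1 h1))
    exact m.pencil hs hX hX'.1 hD hDX' hDX hc hcD hU hw hw1 hwX' (Or.inl hX')
      (Or.inl (hΩle hX' hcX' hDX' he' he1'))

end CfsgLib.PairGen
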