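import Cfsg.Agent.PairGen.Basic
import Cfsg.Agent.Solvable.Fitting
import Cfsg.Agent.Signalizer.Local
import Cfsg.Agent.OddEnd.FourteenFinal

/-!
# Odd groups generated by conjugates generating a fixed group in pairs

The structure of such a group: a `q`-group extended by any one of the conjugates.
-/

set_option autoImplicit false
set_option linter.unusedSectionVars false
set_option linter.style.haveILetI false

namespace CfsgLib.PairGen

open scoped commutatorElement Pointwise

variable {G : Type*} [Group G]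

/-- What the original hypothesis gives at once. -/
structure Start (p q : ℕ) (a : G) : Prop where
  hp : p.Prime
  hq : q.Prime
  hne : q ≠ p
  hpodd : Odd p
  hord : orderOf a = p
  gen : mclos a ⊤ = ⊤
  psub : ∀ P : Subgroup G, IsPGroup p P → ∀ b c, IsConj a b → IsConj a c → b ∈ P → c ∈ P →
    b ∈ Subgroup.zpowers c
  pair : ∀ b c, IsConj a b → IsConj a c → Odd (Nat.card (Subgroup.closure ({b, c} : Set G)))
  iso : ∀ b c b' c', IsConj a b → IsConj a c → IsConj a b' → IsConj a c' →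
    b ∉ Subgroup.zpowers c → b' ∉ Subgroup.zpowers c' →
      Nonempty (Subgroup.closure ({b, c} : Set G) ≃* Subgroup.closure ({b', c'} : Set G))
  qdvd : ∀ b c, IsConj a b → IsConj a c → b ∉ Subgroup.zpowers c →
    q ∣ Nat.card (Subgroup.closure ({b, c} : Set G))

variable [Finite G]

/-- Two subgroups of order `p` of a group of order dividing `n * p`, `p` prime to `n`, are conjugate. -/
theorem exists_conj_zpowers {p n : ℕ} [Fact p.Prime] {H : Subgroup G} {c y : G} (hc : orderOf c = p)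
    (hcH : c ∈ H) (hy : y ∈ H) (hyp : y ^ p = 1) (hH : Nat.card H ∣ n * p) (hn : ¬ p ∣ n) :
    ∃ k ∈ H, y ∈ Subgroup.zpowers (k * c * k⁻¹) := by
  have hp : p.Prime := Fact.out
  have hidx : ¬ p ∣ (Subgroup.zpowers (⟨c, hcH⟩ : H)).index := by
    intro hd
    refine hn (Nat.dvd_of_mul_dvd_mul_right hp.pos ?_)
    refine dvd_trans ?_ hH
    rw [← (Subgroup.zpowers (⟨c, hcH⟩ : H)).index_mul_card, Nat.card_zpowers,
      ← Subgroup.orderOf_coe]
    exact Nat.mul_dvd_mul hd (by rw [hc])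
  let P : Sylow p H := IsPGroup.toSylow (IsPGroup.of_card (p := p) (n := 1)
    (by rw [Nat.card_zpowers, ← Subgroup.orderOf_coe, pow_one]; exact hc)) hidx
  have hyP : IsPGroup p (Subgroup.zpowers (⟨y, hy⟩ : H)) := by
    intro x
    refine ⟨1, Subtype.ext ?_⟩
    obtain ⟨i, hi⟩ := x.2
    simp only at hi
    rw [pow_one, SubgroupClass.coe_pow, ← hi, ← zpow_natCast, zpow_comm, zpow_natCast,
      show (⟨y, hy⟩ : H) ^ p = 1 from Subtype.ext (by simpa using hyp), one_zpow]
    rfl
  obtain ⟨Q, hQ⟩ := hyP.exists_le_sylow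
  obtain ⟨k, hk⟩ := MulAction.exists_smul_eq H P Q
  have h1 := hQ (Subgroup.mem_zpowers _)
  rw [← hk, Sylow.coe_subgroup_smul, Subgroup.mem_pointwise_smul_iff_inv_smul_mem] at h1
  obtain ⟨i, hi⟩ := h1
  refine ⟨k, k.2, i, ?_⟩
  have h2 := congrArg (fun z : H => (z : G)) hi
  simp only [MulAut.smul_def, ← map_inv, MulAut.conj_apply, inv_inv, SubgroupClass.coe_zpow,
    Subgroup.coe_mul, InvMemClass.coe_inv] at h2
  show ((k : G) * c * (k : G)⁻¹) ^ i = y
  rw [conj_zpow, h2]; group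

theorem card_sup_zpowers_dvd {K : Subgroup G} {c : G} (hc : c ∈ Subgroup.normalizer (K : Set G)) :
    Nat.card (K ⊔ Subgroup.zpowers c : Subgroup G) ∣ Nat.card K * orderOf c := by
  rw [← Nat.card_zpowers, sup_comm, mul_comm]
  exact CfsgLib.Solvable.card_sup_dvd (A := Subgroup.zpowers c) (K := K) (Subgroup.zpowers_le.2 hc)

theorem pow_card_not_dvd {r p : ℕ} (hr : r.Prime) (hp : p.Prime) (hne : r ≠ p) (n : ℕ) :
    ¬ p ∣ r ^ n := fun hd =>
  hne ((Nat.prime_dvd_prime_iff_eq hp hr).1 (hp.dvd_of_dvd_pow hd)).symm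

/-- The `q`-elements of a `q`-group extended by an element of order prime to `q` lie in the group. -/
theorem qpart_eq {p q : ℕ} (hp : p.Prime) (hq : q.Prime) (hne : q ≠ p) {R H : Subgroup G} {c : G}
    (hc : orderOf c = p) (hR : IsPGroup q R) (hcR : c ∈ Subgroup.normalizer (R : Set G))
    (hH : H = R ⊔ Subgroup.zpowers c) : qpart q H = R := by
  haveI : Fact q.Prime := ⟨hq⟩
  have hRH : R ≤ H := hH ▸ le_sup_left
  refine le_antisymm ((Subgroup.closure_le R).2 ?_) fun x hx => Subgroup.subset_closure ⟨hRH hx, ?_⟩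
  · rintro x ⟨hx, n, hn⟩
    have hxN : x ∈ Subgroup.normalizer (R : Set G) := by
      refine (show H ≤ Subgroup.normalizer (R : Set G) from ?_) hx
      exact hH ▸ sup_le Subgroup.le_normalizer (Subgroup.zpowers_le.2 hcR)
    have hQ : IsPGroup q (Subgroup.zpowers x ⊔ R : Subgroup G) :=
      IsPGroup.to_sup_of_normal_right' (IsPGroup.of_card (n := n) (by rw [Nat.card_zpowers, hn])) hR
        (Subgroup.zpowers_le.2 hxN)
    have hd : Nat.card (Subgroup.zpowers x ⊔ R : Subgroup G) ∣ Nat.card R := by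
      obtain ⟨m, hm⟩ := IsPGroup.iff_card.1 hQ
      refine Nat.Coprime.dvd_of_dvd_mul_right (k := Nat.card (Subgroup.zpowers x ⊔ R : Subgroup G))
        (n := p) ?_ ?_
      · rw [hm]; exact ((Nat.coprime_primes hq hp).2 hne).pow_left m
      · refine dvd_trans (Subgroup.card_dvd_of_le (sup_le (Subgroup.zpowers_le.2 hx) hRH)) ?_
        rw [hH, ← hc]; exact card_sup_zpowers_dvd hcR
    have he := Subgroup.eq_of_le_of_card_ge (le_sup_right : R ≤ Subgroup.zpowers x ⊔ R)
      (Nat.le_of_dvd Nat.card_pos hd)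
    exact he.symm ▸ (Subgroup.mem_sup_left (Subgroup.mem_zpowers x) : x ∈ Subgroup.zpowers x ⊔ R)
  · obtain ⟨n, hn⟩ := IsPGroup.iff_orderOf.1 hR ⟨x, hx⟩
    exact ⟨n, by rwa [Subgroup.orderOf_mk] at hn⟩

/-- A Sylow subgroup invariant under an element of prime order prime to the group. -/
theorem exists_inv_sylow {p : ℕ} [Fact p.Prime] {L : Subgroup G} {c : G} (hc : orderOf c = p)
    (hcL : c ∈ Subgroup.normalizer (L : Set G)) (hL : ¬ p ∣ Nat.card L) (r : ℕ) [Fact r.Prime] :
    ∃ P : Sylow r L, c ∈ Subgroup.normalizer (((P : Subgroup L).map L.subtype : Subgroup G) : Set G) := by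
  set F : Sylow r L → Subgroup G := fun P => (P : Subgroup L).map L.subtype
  have hF : Function.Injective F := fun P Q h =>
    Sylow.ext (Subgroup.map_injective L.subtype_injective h)
  obtain ⟨_, ⟨P, rfl⟩, hP⟩ := exists_conj_fixed (r := p) (Subgroup.zpowers c)
    (IsPGroup.of_card (n := 1) (by rw [Nat.card_zpowers, hc, pow_one])) (Set.range F)
    (by
      rintro g hg _ ⟨P, rfl⟩
      have hgL : L.map (MulAut.conj g).toMonoidHom = L :=
        map_conj_eq_iff.2 (Subgroup.zpowers_le.2 hcL hg)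
      set P' := (F P).map (MulAut.conj g).toMonoidHom
      have hle : P' ≤ L := (Subgroup.map_mono (Subgroup.map_subtype_le _)).trans hgL.le
      have hPG : IsPGroup r P' := (P.2.map L.subtype).map (MulAut.conj g).toMonoidHom
      have hPL : IsPGroup r (P'.subgroupOf L) := hPG.comap_of_injective _ L.subtype_injective
      obtain ⟨Q, hQ⟩ := hPL.exists_le_sylow
      refine ⟨Q, (Subgroup.eq_of_le_of_card_ge ?_ ?_).symm⟩
      · rw [← Subgroup.map_subgroupOf_eq_of_le hle]; exact Subgroup.map_mono hQ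
      · refine le_of_eq ?_
        simp only [P', F]
        rw [Subgroup.card_map_of_injective (f := (MulAut.conj g).toMonoidHom) (MulAut.conj g).injective,
          Subgroup.card_map_of_injective L.subtype_injective,
          Subgroup.card_map_of_injective L.subtype_injective, Sylow.card_eq_multiplicity P,
          Sylow.card_eq_multiplicity Q])
    (by
      rw [show (Set.range F).ncard = Nat.card (Sylow r L) by
        rw [← Nat.card_coe_set_eq]; exact Nat.card_congr (Equiv.ofInjective F hF).symm]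
      intro hd
      obtain ⟨P⟩ := (inferInstance : Nonempty (Sylow r L))
      exact hL (hd.trans (P.card_dvd_index.trans (Subgroup.index_dvd_card _))))
  exact ⟨P, map_conj_eq_iff.1 (hP c (Subgroup.mem_zpowers c))⟩

variable {p q : ℕ} {a c : G} {H : Subgroup G} (h : Start p q a)

include h

theorem Start.orderOf_eq {b : G} (hb : IsConj a b) : orderOf b = p := by
  obtain ⟨g, rfl⟩ := isConj_iff.1 hb
  rw [← h.hord]
  simpa using orderOf_injective (MulAut.conj g).toMonoidHom (MulAut.conj g).injective a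

theorem Start.commute_of_mem_pgroup {S : Subgroup G} (hS : IsPGroup p S) {b : G} (hb : IsConj a b)
    (hbS : b ∈ S) {s : G} (hs : s ∈ S) : Commute s b := by
  haveI : Fact p.Prime := ⟨h.hp⟩
  obtain ⟨i, hi⟩ := h.psub S hS _ b (isConj_conj hb s) hb
    (mul_mem (mul_mem hs hbS) (inv_mem hs)) hbS
  simp only at hi
  have key : ∀ k : ℕ, s ^ k * b * (s ^ k)⁻¹ = b ^ (i ^ k) := by
    intro k
    induction k with
    | zero => simp
    | succ k ih =>
      calc s ^ (k + 1) * b * (s ^ (k + 1))⁻¹ = s * (s ^ k * b * (s ^ k)⁻¹) * s⁻¹ := by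
            rw [pow_succ']; group
        _ = s * b ^ (i ^ k) * s⁻¹ := by rw [ih]
        _ = (s * b * s⁻¹) ^ (i ^ k) := (conj_zpow).symm
        _ = b ^ (i ^ (k + 1)) := by rw [← hi, ← zpow_mul, pow_succ']
  obtain ⟨n, hn⟩ := hS ⟨s, hs⟩
  have hn' : s ^ p ^ n = 1 := by simpa using congrArg Subtype.val hn
  have h1 := key (p ^ n)
  rw [hn', one_mul, inv_one, mul_one] at h1
  have h2 : (b : G) ^ (i ^ (p ^ n) : ℤ) = b ^ (1 : ℤ) := by rw [← h1, zpow_one]
  rw [zpow_eq_zpow_iff_modEq, h.orderOf_eq hb, ← ZMod.intCast_eq_intCast_iff] at h2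
  push_cast at h2
  rw [ZMod.pow_card_pow] at h2
  have h3 : b ^ i = b ^ (1 : ℤ) := by
    rw [zpow_eq_zpow_iff_modEq, h.orderOf_eq hb, ← ZMod.intCast_eq_intCast_iff]
    push_cast; exact h2
  rw [zpow_one, hi] at h3
  exact mul_inv_eq_iff_eq_mul.1 h3

/-- An odd group generated by conjugates is a `p'`-group extended by one of them. -/
theorem Start.pCore_decomp (hH : OddSys a H) (hc : IsConj a c) (hcH : c ∈ H) :
    ∃ K : Subgroup G, K ≤ H ∧ ¬ p ∣ Nat.card K ∧ H ≤ Subgroup.normalizer (K : Set G) ∧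
      H = K ⊔ Subgroup.zpowers c := by
  haveI : Fact p.Prime := ⟨h.hp⟩
  haveI : Group.IsSolvable H := CfsgLib.OddEnd.odd_solvable H hH.odd
  set O := Cfsg.pPrimeCore p H
  set f := QuotientGroup.mk' O
  have hf : Function.Surjective f := QuotientGroup.mk'_surjective O
  have hbig : ∀ b : G, IsConj a b → ∀ hb : b ∈ H, f ⟨b, hb⟩ ∈ Cfsg.pCore p (H ⧸ O) := by
    intro b hbc hbH
    refine CfsgLib.Signalizer.centralizer_pCore_quotient_le (G := H) (p := p)
      (Subgroup.mem_centralizer_iff.2 fun z hz => ?_)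
    have hb1 : IsPGroup p (Subgroup.zpowers (⟨b, hbH⟩ : H)) := IsPGroup.of_card (n := 1) (by
      rw [Nat.card_zpowers, ← Subgroup.orderOf_coe, pow_one]; exact h.orderOf_eq hbc)
    obtain ⟨S, hS⟩ := hb1.exists_le_sylow
    have hzS : z ∈ (S.mapSurjective hf : Subgroup (H ⧸ O)) := by
      obtain ⟨T, hT⟩ := (CfsgLib.Solvable.isPGroup_pCore (G := H ⧸ O) p).exists_le_sylow
      obtain ⟨g, hg⟩ := MulAction.exists_smul_eq (H ⧸ O) T (S.mapSurjective hf)
      rw [← hg, Sylow.coe_subgroup_smul, Subgroup.mem_pointwise_smul_iff_inv_smul_mem]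
      refine hT ?_
      simp only [MulAut.smul_def, ← map_inv, MulAut.conj_apply, inv_inv]
      have h1 := (CfsgLib.Solvable.pCore_spec (G := H ⧸ O) p).1.conj_mem z hz g⁻¹
      rwa [inv_inv] at h1
    rw [Sylow.coe_mapSurjective] at hzS
    obtain ⟨s, hs, rfl⟩ := hzS
    have hcom : Commute (s : G) b := h.commute_of_mem_pgroup (S.2.map H.subtype) hbc
      ⟨_, hS (Subgroup.mem_zpowers _), rfl⟩ ⟨s, hs, rfl⟩
    rw [← map_mul, ← map_mul, show s * ⟨b, hbH⟩ = ⟨b, hbH⟩ * s from Subtype.ext hcom.eq]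
  have htop : Cfsg.pCore p (H ⧸ O) = ⊤ := by
    rw [eq_top_iff]
    intro x _
    obtain ⟨⟨y, hy⟩, rfl⟩ := hf x
    suffices H ≤ ((Cfsg.pCore p (H ⧸ O)).comap f).map H.subtype by
      obtain ⟨z, hz, e⟩ := this hy
      rwa [show (⟨y, hy⟩ : H) = z from Subtype.ext e.symm]
    exact le_of_members hH.closed fun b hb hbH => ⟨⟨b, hbH⟩, hbig b hb hbH, rfl⟩
  have hc1 : IsPGroup p (Subgroup.zpowers (⟨c, hcH⟩ : H)) := IsPGroup.of_card (n := 1) (by
    rw [Nat.card_zpowers, ← Subgroup.orderOf_coe, pow_one]; exact h.orderOf_eq hc)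
  obtain ⟨S, hS⟩ := hc1.exists_le_sylow
  have hST : (S : Subgroup H).map f = ⊤ := by
    have hP : IsPGroup p (⊤ : Subgroup (H ⧸ O)) :=
      htop ▸ CfsgLib.Solvable.isPGroup_pCore (G := H ⧸ O) p
    rw [← Sylow.coe_mapSurjective hf]
    exact ((S.mapSurjective hf).3 hP le_top).symm
  set K := O.map H.subtype
  have hN : H ≤ Subgroup.normalizer (K : Set G) := by
    have h1 := Subgroup.le_normalizer_map (H := O) H.subtype
    rwa [Subgroup.normalizer_eq_top, ← MonoidHom.range_eq_map, Subgroup.range_subtype] at h1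
  have hKH : K ≤ H := Subgroup.map_subtype_le O
  refine ⟨K, hKH, ?_, hN, le_antisymm (le_of_members hH.closed fun b hb hbH => ?_)
    (sup_le hKH (Subgroup.zpowers_le.2 hcH))⟩
  · intro hd
    rw [Subgroup.card_map_of_injective H.subtype_injective] at hd
    exact h.hp.coprime_iff_not_dvd.1 (CfsgLib.Solvable.coprime_card_pPrimeCore (G := H) p).symm hd
  · have hb1 : IsPGroup p (Subgroup.zpowers (⟨b, hbH⟩ : H)) := IsPGroup.of_card (n := 1) (by
      rw [Nat.card_zpowers, ← Subgroup.orderOf_coe, pow_one]; exact h.orderOf_eq hb)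
    obtain ⟨T, hT⟩ := hb1.exists_le_sylow
    obtain ⟨g, hg⟩ := MulAction.exists_smul_eq H S T
    obtain ⟨s, hs, hsg⟩ := (show f g ∈ (S : Subgroup H).map f from hST ▸ Subgroup.mem_top _)
    have ho : g * s⁻¹ ∈ O := by
      rw [← QuotientGroup.eq_one_iff, ← QuotientGroup.mk'_apply, map_mul, map_inv, hsg]
      exact mul_inv_cancel _
    have h1 := hT (Subgroup.mem_zpowers _)
    rw [← hg, Sylow.coe_subgroup_smul, Subgroup.mem_pointwise_smul_iff_inv_smul_mem] at h1
    simp only [MulAut.smul_def, ← map_inv, MulAut.conj_apply, inv_inv] at h1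
    set o := g * s⁻¹
    have h2 : o⁻¹ * (⟨b, hbH⟩ : H) * o ∈ (S : Subgroup H) := by
      have := mul_mem (mul_mem hs h1) (inv_mem hs)
      simpa [o, mul_assoc] using this
    obtain ⟨j, hj⟩ := h.psub _ (S.2.map H.subtype) ((o : G)⁻¹ * b * o) c
      (by simpa using isConj_conj hb (o : G)⁻¹) hc
      ⟨_, h2, by simp⟩ ⟨_, hS (Subgroup.mem_zpowers _), rfl⟩
    simp only at hj
    have hoK : (o : G) ∈ K := ⟨o, ho, rfl⟩
    rw [show b = (o : G) * ((o : G)⁻¹ * b * o) * (o : G)⁻¹ by group, ← hj]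
    exact mul_mem (mul_mem (Subgroup.mem_sup_left hoK)
      (zpow_mem (Subgroup.mem_sup_right (Subgroup.mem_zpowers c)) j))
      (inv_mem (Subgroup.mem_sup_left hoK))

/-- A subgroup of order prime to `p` normalized but not centralized by a conjugate gives a pair. -/
theorem Start.pair_of_moved {U : Subgroup G} (hU : ¬ p ∣ Nat.card U) (hc : IsConj a c)
    (hcU : c ∈ Subgroup.normalizer (U : Set G)) {u : G} (hu : u ∈ U) (huc : ¬ Commute u c) :
    u * c * u⁻¹ ∉ Subgroup.zpowers c ∧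
      Subgroup.closure ({u * c * u⁻¹, c} : Set G) ≤ U ⊔ Subgroup.zpowers c := by
  constructor
  · intro hd
    refine huc (mul_inv_eq_iff_eq_mul.1 (mul_inv_eq_one.1 (orderOf_eq_one_iff.1
      (Nat.eq_one_of_dvd_coprimes (h.hp.coprime_iff_not_dvd.2 hU) ?_
        (Subgroup.orderOf_dvd_natCard U (?_ : u * c * u⁻¹ * c⁻¹ ∈ U))))))
    · have := Subgroup.orderOf_dvd_natCard _ (mul_mem hd (inv_mem (Subgroup.mem_zpowers c)))
      rwa [Nat.card_zpowers, h.orderOf_eq hc] at this
    · rw [show u * c * u⁻¹ * c⁻¹ = u * (c * u⁻¹ * c⁻¹) by group]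
      exact mul_mem hu ((Subgroup.mem_normalizer_iff.1 hcU _).1 (inv_mem hu))
  · rw [Subgroup.closure_le]
    rintro x (rfl | rfl)
    · exact mul_mem (mul_mem (Subgroup.mem_sup_left hu)
        (Subgroup.mem_sup_right (Subgroup.mem_zpowers c))) (inv_mem (Subgroup.mem_sup_left hu))
    · exact Subgroup.mem_sup_right (Subgroup.mem_zpowers _)

/-- Only for the prime `q` can a group be moved. -/
theorem Start.commute_of_ne {r : ℕ} (hr : r.Prime) (hrp : r ≠ p) (hrq : r ≠ q) {U : Subgroup G}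
    (hU : IsPGroup r U) (hc : IsConj a c) (hcU : c ∈ Subgroup.normalizer (U : Set G)) {u : G}
    (hu : u ∈ U) : Commute u c := by
  haveI : Fact r.Prime := ⟨hr⟩
  by_contra huc
  obtain ⟨n, hn⟩ := IsPGroup.iff_card.1 hU
  obtain ⟨hb, hle⟩ := h.pair_of_moved (hn ▸ pow_card_not_dvd hr h.hp hrp n) hc hcU hu huc
  have h1 := (h.qdvd _ c (isConj_conj hc u) hc hb).trans
    ((Subgroup.card_dvd_of_le hle).trans (card_sup_zpowers_dvd hcU))
  rw [hn, h.orderOf_eq hc] at h1
  rcases h.hq.dvd_mul.1 h1 with h2 | h2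
  · exact hrq ((Nat.prime_dvd_prime_iff_eq h.hq hr).1 (h.hq.dvd_of_dvd_pow h2)).symm
  · exact h.hne ((Nat.prime_dvd_prime_iff_eq h.hq h.hp).1 h2)

/-- An odd group generated by conjugates is a `q`-group extended by one of them. -/
theorem Start.struct (hH : OddSys a H) (hc : IsConj a c) (hcH : c ∈ H) :
    ∃ R : Subgroup G, R ≤ H ∧ IsPGroup q R ∧ H ≤ Subgroup.normalizer (R : Set G) ∧
      H = R ⊔ Subgroup.zpowers c := by
  haveI : Fact p.Prime := ⟨h.hp⟩
  haveI : Fact q.Prime := ⟨h.hq⟩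
  obtain ⟨K, hKH, hKp, hKN, hHK⟩ := h.pCore_decomp hH hc hcH
  have hcK := hKN hcH
  set C := K ⊓ Subgroup.centralizer ({c} : Set G)
  obtain ⟨P, hP⟩ := exists_inv_sylow (h.orderOf_eq hc) hcK hKp q
  set R := (P : Subgroup K).map K.subtype
  have hRK : R ≤ K := Subgroup.map_subtype_le _
  have hR : IsPGroup q R := P.2.map _
  -- the index of the fixed points is a power of `q`
  have hprime : ∀ r : ℕ, r.Prime → r ≠ q → ¬ r ∣ (C.subgroupOf K).index := by
    intro r hr hrq hd
    haveI : Fact r.Prime := ⟨hr⟩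
    have hrK : r ∣ Nat.card K := hd.trans (Subgroup.index_dvd_card _)
    obtain ⟨S, hS⟩ := exists_inv_sylow (h.orderOf_eq hc) hcK hKp r
    refine S.not_dvd_index (hd.trans (Subgroup.index_dvd_of_le fun x hx => ?_))
    exact Subgroup.mem_inf.2 ⟨x.2, Subgroup.mem_centralizer_singleton_iff.2
      (h.commute_of_ne hr (fun e => hKp (e ▸ hrK)) hrq (S.2.map K.subtype) hc hS
        ⟨x, hx, rfl⟩).eq⟩
  obtain ⟨e, he⟩ : ∃ e, (C.subgroupOf K).index = q ^ e :=
    ⟨_, Nat.eq_prime_pow_of_unique_prime_dvd (Subgroup.index_ne_zero_of_finite) fun {d} hd hdd =>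
      by_contra fun hne => hprime d hd hne hdd⟩
  set i := Subgroup.quotientSubgroupOfEmbeddingOfLE C hRK
  have hcard : Nat.card (K ⧸ C.subgroupOf K) ≤ Nat.card (R ⧸ C.subgroupOf R) := by
    rw [← Subgroup.index_eq_card, ← Subgroup.index_eq_card, he]
    obtain ⟨t, ht⟩ := IsPGroup.iff_card.1 P.2
    obtain ⟨j, hj⟩ := IsPGroup.iff_card.1 (hR.comap_of_injective R.subtype R.subtype_injective |>
      fun _ => IsPGroup.to_subgroup hR (C.subgroupOf R))
    have h1 := (C.subgroupOf R).index_mul_card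
    have hcR : Nat.card R = q ^ t := by
      rw [show R = (P : Subgroup K).map K.subtype from rfl,
        Subgroup.card_map_of_injective K.subtype_injective, ht]
    rw [hj, hcR] at h1
    by_contra hlt
    push Not at hlt
    have hd1 : q ^ (e + j) ∣ Nat.card K := by
      rw [← (C.subgroupOf K).index_mul_card, he, pow_add]
      refine Nat.mul_dvd_mul_left _ (hj ▸ ?_)
      have e1 : Nat.card (C.subgroupOf R) = Nat.card (C ⊓ R : Subgroup G) := by
        rw [← Subgroup.inf_subgroupOf_right]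
        exact Nat.card_congr (Subgroup.subgroupOfEquivOfLe inf_le_right).toEquiv
      have e2 : Nat.card (C.subgroupOf K) = Nat.card C :=
        Nat.card_congr (Subgroup.subgroupOfEquivOfLe inf_le_left).toEquiv
      rw [e1, e2]
      exact Subgroup.card_dvd_of_le inf_le_left
    have hd2 : q ^ (e + j) ∣ q ^ t := by
      rw [← ht]
      refine ((Nat.Coprime.pow_left _ ?_).dvd_mul_right).1
        (show q ^ (e + j) ∣ Nat.card (P : Subgroup K) * (P : Subgroup K).index by
          rw [Subgroup.card_mul_index]; exact hd1)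
      exact h.hq.coprime_iff_not_dvd.2 P.not_dvd_index
    have h3 : q ^ (e + j) ≤ q ^ t := Nat.le_of_dvd (pow_pos h.hq.pos t) hd2
    rw [← h1, pow_add] at h3
    exact absurd (Nat.le_of_mul_le_mul_right h3 (pow_pos h.hq.pos j)) (not_le.2 hlt)
  have hsurj : Function.Surjective i :=
    (i.injective.bijective_of_nat_card_le hcard).2
  have hle : H ≤ R ⊔ Subgroup.zpowers c := le_of_members hH.closed fun b hb hbH => by
    obtain ⟨k, hkH, hk⟩ := exists_conj_zpowers (n := Nat.card K) (h.orderOf_eq hc) hcH hbH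
      (by rw [← h.orderOf_eq hb, pow_orderOf_eq_one])
      (by
        rw [← h.orderOf_eq hc]
        conv_lhs => rw [hHK]
        exact card_sup_zpowers_dvd hcK) hKp
    have hk' : k ∈ ((K ⊔ Subgroup.zpowers c : Subgroup G) : Set G) := hHK ▸ hkH
    rw [Subgroup.coe_mul_of_right_le_normalizer_left K _ (Subgroup.zpowers_le.2 hcK)] at hk'
    obtain ⟨k0, hk0, w, hw, hkw⟩ := hk'
    simp only at hkw
    obtain ⟨r0, hr0⟩ := hsurj (QuotientGroup.mk (⟨k0, hk0⟩ : K))
    obtain ⟨r, rfl⟩ := QuotientGroup.mk_surjective r0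
    rw [Subgroup.quotientSubgroupOfEmbeddingOfLE_apply_mk, QuotientGroup.eq] at hr0
    have hx : Commute ((r : G)⁻¹ * k0) c := by
      have := (Subgroup.mem_inf.1 (Subgroup.mem_subgroupOf.1 hr0)).2
      exact Subgroup.mem_centralizer_singleton_iff.1 this
    have hwc : Commute w c := by
      obtain ⟨j, rfl⟩ := hw
      exact Commute.zpow_self c j
    refine Subgroup.zpowers_le.2 ?_ hk
    rw [← hkw, show k0 * w * c * (k0 * w)⁻¹ = (r : G) * ((r : G)⁻¹ * k0 * (w * c * w⁻¹) *
      ((r : G)⁻¹ * k0)⁻¹) * (r : G)⁻¹ by group, mul_inv_eq_iff_eq_mul.2 hwc.eq,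
      mul_inv_eq_iff_eq_mul.2 hx.eq]
    exact mul_mem (mul_mem (Subgroup.mem_sup_left r.2)
      (Subgroup.mem_sup_right (Subgroup.mem_zpowers c))) (inv_mem (Subgroup.mem_sup_left r.2))
  exact ⟨R, hRK.trans hKH, hR, hle.trans (sup_le Subgroup.le_normalizer (Subgroup.zpowers_le.2 hP)),
    le_antisymm hle (sup_le (hRK.trans hKH) (Subgroup.zpowers_le.2 hcH))⟩

end CfsgLib.PairGen
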